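import Groth.Agent.NodalLib.GeoQuad
import Groth.Prelude.Def_StrictSS
import Mathlib

/-!
# The node model `A[u, v]/(uv - a)`
-/

set_option autoImplicit false
set_option linter.style.haveILetI false
set_option linter.unusedSectionVars false
set_option maxHeartbeats 1000000
set_option synthInstance.maxHeartbeats 100000

universe u

open IsLocalRing StrictSS
open scoped TensorProduct

noncomputable section

namespace StrictSSLib

variable {A : Type u} [CommRing A] (a : A)

/-- The coordinates. -/
abbrev uv (i : Fin 2) : NodeAlg A a := Ideal.Quotient.mk _ (MvPolynomial.X i)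

theorem uv_mul : uv a 0 * uv a 1 = algebraMap A (NodeAlg A a) a := by
  rw [← map_mul]
  exact Ideal.Quotient.eq.2 (Ideal.mem_span_singleton_self _)

theorem uv_mul' (i : Fin 2) : uv a i * uv a i.rev = algebraMap A (NodeAlg A a) a := by
  fin_cases i
  · exact uv_mul a
  · rw [mul_comm]; exact uv_mul a

theorem algHom_ext' {B : Type*} [CommRing B] [Algebra A B] {f g : NodeAlg A a →ₐ[A] B}
    (h : ∀ i, f (uv a i) = g (uv a i)) : f = g :=
  Ideal.Quotient.algHom_ext _ (MvPolynomial.algHom_ext h)

/-- The universal property. -/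
def lift {B : Type*} [CommRing B] [Algebra A B] (x : Fin 2 → B) (hx : x 0 * x 1 = algebraMap A B a) :
    NodeAlg A a →ₐ[A] B :=
  Ideal.Quotient.liftₐ _ (MvPolynomial.aeval x) fun z hz => by
    obtain ⟨w, rfl⟩ := Ideal.mem_span_singleton'.1 hz
    simp [hx]

@[simp] theorem lift_uv {B : Type*} [CommRing B] [Algebra A B] (x : Fin 2 → B)
    (hx : x 0 * x 1 = algebraMap A B a) (i : Fin 2) : lift a x hx (uv a i) = x i := by
  exact MvPolynomial.aeval_X x i

/-- Away from `u = 0` (or `v = 0`) the node model is a punctured line. -/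
theorem smooth_away (i : Fin 2) : Algebra.Smooth A (Localization.Away (uv a i)) := by
  let P := Localization.Away (Polynomial.X : Polynomial A)
  let N := Localization.Away (uv a i)
  obtain ⟨w, hw⟩ := (IsLocalization.Away.algebraMap_isUnit (S := P) (Polynomial.X : Polynomial A)).exists_right_inv
  obtain ⟨w', hw'⟩ := (IsLocalization.Away.algebraMap_isUnit (S := N) (uv a i)).exists_right_inv
  let X' : P := algebraMap (Polynomial A) P Polynomial.X
  let xs : Fin 2 → P := fun j => if j = i then X' else algebraMap A P a * w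
  have hxs : xs 0 * xs 1 = algebraMap A P a := by
    fin_cases i <;> simp [xs] <;> linear_combination (algebraMap A P a) * hw
  have hu : IsUnit (lift a xs hxs (uv a i)) := by
    rw [lift_uv]
    simpa [xs, X'] using IsLocalization.Away.algebraMap_isUnit (S := P) (Polynomial.X : Polynomial A)
  let F : N →ₐ[A] P := IsLocalization.liftAlgHom (M := Submonoid.powers (uv a i)) (S := N) (f := lift a xs hxs) (by
    rintro ⟨_, n, rfl⟩
    rw [map_pow]
    exact hu.pow n)
  have hu' : IsUnit (Polynomial.aeval (R := A) (algebraMap (NodeAlg A a) N (uv a i)) Polynomial.X) := by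
    rw [Polynomial.aeval_X]
    exact IsLocalization.Away.algebraMap_isUnit (uv a i)
  let G : P →ₐ[A] N := IsLocalization.liftAlgHom (M := Submonoid.powers (Polynomial.X : Polynomial A)) (S := P)
      (f := Polynomial.aeval (algebraMap (NodeAlg A a) N (uv a i))) (by
    rintro ⟨_, n, rfl⟩
    rw [map_pow]
    exact hu'.pow n)
  have hF : ∀ z, F (algebraMap (NodeAlg A a) N z) = lift a xs hxs z := fun z =>
    IsLocalization.lift_eq _ z
  have hG : ∀ z, G (algebraMap (Polynomial A) P z) = Polynomial.aeval (algebraMap (NodeAlg A a) N (uv a i)) z :=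
    fun z => IsLocalization.lift_eq _ z
  have h1 : F.comp G = AlgHom.id A P := by
    refine IsLocalization.algHom_ext (Submonoid.powers (Polynomial.X : Polynomial A)) ?_
    refine Polynomial.algHom_ext ?_
    show F (G (algebraMap (Polynomial A) P Polynomial.X)) = algebraMap (Polynomial A) P Polynomial.X
    rw [hG, Polynomial.aeval_X, hF, lift_uv]
    simp [xs, X']
  have h2 : G.comp F = AlgHom.id A N := by
    refine IsLocalization.algHom_ext (Submonoid.powers (uv a i)) ?_
    refine algHom_ext' a fun j => ?_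
    show G (F (algebraMap (NodeAlg A a) N (uv a j))) = algebraMap (NodeAlg A a) N (uv a j)
    rw [hF, lift_uv]
    by_cases hji : j = i
    · simp only [xs, if_pos hji, X']
      rw [hG, Polynomial.aeval_X, hji]
    · have hj : j = i.rev := by fin_cases i <;> fin_cases j <;> simp_all
      simp only [xs, if_neg hji]
      rw [map_mul, AlgHom.commutes, hj]
      have hGw : G w * algebraMap (NodeAlg A a) N (uv a i) = 1 := by
        have := congrArg G hw
        rw [map_mul, map_one, hG, Polynomial.aeval_X] at this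
        rw [mul_comm]; exact this
      rw [IsScalarTower.algebraMap_apply A (NodeAlg A a) N, ← uv_mul' a i, map_mul]
      linear_combination (algebraMap (NodeAlg A a) N (uv a i.rev)) * hGw
  haveI : Algebra.Smooth A (Polynomial A) := ⟨inferInstance, inferInstance⟩
  haveI : Algebra.Smooth A P := Algebra.Smooth.comp A (Polynomial A) P
  exact Algebra.Smooth.of_equiv (AlgEquiv.ofAlgHom G F h2 h1)

/-- Base change of the node model. -/
theorem isPushout (B : Type u) [CommRing B] [Algebra A B] :
    ∃ e : B ⊗[A] NodeAlg A a ≃ₐ[B] NodeAlg B (algebraMap A B a),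
      ∀ i, e (1 ⊗ₜ uv a i) = uv (algebraMap A B a) i := by
  let b := algebraMap A B a
  let ι : NodeAlg A a →ₐ[A] NodeAlg B b := lift a (uv b) (by
    rw [uv_mul, ← IsScalarTower.algebraMap_apply])
  let F : B ⊗[A] NodeAlg A a →ₐ[B] NodeAlg B b :=
    Algebra.TensorProduct.lift (Algebra.ofId B _) ι fun _ _ => Commute.all _ _
  let G : NodeAlg B b →ₐ[B] B ⊗[A] NodeAlg A a := lift b (fun i => (1 : B) ⊗ₜ[A] uv a i) (by
    rw [Algebra.TensorProduct.tmul_mul_tmul, one_mul, uv_mul, Algebra.TensorProduct.algebraMap_apply,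
      Algebra.algebraMap_eq_smul_one, ← TensorProduct.smul_tmul]
    simp [b, Algebra.algebraMap_eq_smul_one])
  have hFt : ∀ i, F (1 ⊗ₜ uv a i) = uv b i := fun i => by
    simp [F, ι]
  have h1 : F.comp G = AlgHom.id B _ := algHom_ext' b fun i => by
    simp only [AlgHom.coe_comp, Function.comp_apply, AlgHom.coe_id, id_eq, G, lift_uv]
    exact hFt i
  have h2 : G.comp F = AlgHom.id B _ := by
    refine Algebra.TensorProduct.ext (Algebra.ext_id _ _ _) (algHom_ext' (A := A) (B := B ⊗[A] NodeAlg A a) a
      (f := (AlgHom.restrictScalars A (G.comp F)).comp Algebra.TensorProduct.includeRight)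
      (g := (AlgHom.restrictScalars A (AlgHom.id B (B ⊗[A] NodeAlg A a))).comp Algebra.TensorProduct.includeRight)
      fun i => ?_)
    show G (F (1 ⊗ₜ uv a i)) = 1 ⊗ₜ uv a i
    rw [hFt]; simp [G]
  exact ⟨AlgEquiv.ofAlgHom F G h1 h2, hFt⟩

section Field

variable {k : Type u} [Field k]

theorem origin_eq (c : k) (P : Ideal (NodeAlg k c)) [P.IsPrime] (hP : ∀ i, uv c i ∈ P) :
    c = 0 ∧ P = Ideal.span {uv c 0, uv c 1} ∧
      ∀ z : NodeAlg k c, ∃ t : k, z - algebraMap k _ t ∈ P := by
  have hle : Ideal.span {uv c 0, uv c 1} ≤ P := Ideal.span_le.2 (Set.pair_subset (hP 0) (hP 1))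
  have hc : c = 0 := by
    by_contra h
    have h1 : algebraMap k (NodeAlg k c) c ∈ P := by
      rw [← uv_mul]; exact P.mul_mem_right _ (hP 0)
    exact ‹P.IsPrime›.ne_top (P.eq_top_of_isUnit_mem h1 ((isUnit_iff_ne_zero.2 h).map _))
  have key : ∀ z : NodeAlg k c, ∃ t : k, z - algebraMap k _ t ∈ Ideal.span {uv c 0, uv c 1} := fun z => by
    obtain ⟨f, rfl⟩ := Ideal.Quotient.mk_surjective z
    induction f using MvPolynomial.induction_on with
    | C r => exact ⟨r, by simp [← Ideal.Quotient.mk_algebraMap]⟩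
    | add p q hp hq =>
      obtain ⟨s, hs⟩ := hp
      obtain ⟨t, ht⟩ := hq
      refine ⟨s + t, ?_⟩
      simpa only [map_add, add_sub_add_comm] using add_mem hs ht
    | mul_X p i _ =>
      refine ⟨0, ?_⟩
      rw [map_zero, sub_zero, map_mul]
      exact Ideal.mul_mem_left _ _ (Ideal.subset_span (by fin_cases i <;> simp))
  refine ⟨hc, le_antisymm (fun z hz => ?_) hle, fun z => (key z).imp fun t ht => hle ht⟩
  obtain ⟨t, ht⟩ := key z
  have htP : algebraMap k (NodeAlg k c) t ∈ P := by simpa using sub_mem hz (hle ht)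
  have ht0 : t = 0 := by
    by_contra h
    exact ‹P.IsPrime›.ne_top (P.eq_top_of_isUnit_mem htP ((isUnit_iff_ne_zero.2 h).map _))
  simpa [ht0] using ht

theorem sum_mem_nonZeroDivisors :
    uv (0 : k) 0 + uv (0 : k) 1 ∈ nonZeroDivisors (NodeAlg k 0) := by
  refine mem_nonZeroDivisors_iff_right.2 fun z hz => ?_
  obtain ⟨f, rfl⟩ := Ideal.Quotient.mk_surjective z
  rw [← map_add, ← map_mul, Ideal.Quotient.eq_zero_iff_mem, Ideal.mem_span_singleton, map_zero, sub_zero] at hz
  have hne : ∀ i : Fin 2, ¬ (MvPolynomial.X i : MvPolynomial (Fin 2) k) ∣ MvPolynomial.X i.rev := fun i h => by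
    rw [MvPolynomial.X_dvd_X] at h
    fin_cases i <;> simp at h
  obtain ⟨g, rfl⟩ : (MvPolynomial.X 0 : MvPolynomial (Fin 2) k) ∣ f := by
    have h := dvd_trans (dvd_mul_right _ _) hz
    rw [mul_add] at h
    have h2 := (dvd_add_right (dvd_mul_left _ _)).1 h
    exact ((MvPolynomial.X_prime).dvd_or_dvd h2).resolve_right (hne 0)
  rw [Ideal.Quotient.eq_zero_iff_mem, Ideal.mem_span_singleton, map_zero, sub_zero]
  refine mul_dvd_mul_left _ ?_
  have h : (MvPolynomial.X 1 : MvPolynomial (Fin 2) k) ∣ MvPolynomial.X 0 * g * (MvPolynomial.X 0 + MvPolynomial.X 1) :=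
    dvd_trans (dvd_mul_left _ _) hz
  rw [mul_add] at h
  have h2 := (dvd_add_left (dvd_mul_left _ _)).1 h
  rcases (MvPolynomial.X_prime).dvd_or_dvd h2 with h3 | h3
  · exact ((MvPolynomial.X_prime).dvd_or_dvd h3).resolve_left (hne 1)
  · exact absurd h3 (hne 1)

theorem isGeoNode_origin' (P : Ideal (NodeAlg k 0)) [P.IsPrime] (hP : ∀ i, uv 0 i ∈ P) (L : Type u) [CommRing L]
    [IsLocalRing L] [Algebra (NodeAlg k 0) L] [Algebra k L] [IsScalarTower k (NodeAlg k 0) L]
    [IsLocalization.AtPrime L P] : NodalLib.IsGeoNode k L := by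
  obtain ⟨-, hPeq, hres⟩ := origin_eq (0 : k) P hP
  let al : NodeAlg k 0 →+* L := algebraMap _ L
  have hmem : ∀ z, al z ∈ maximalIdeal L ↔ z ∈ P := fun z =>
    (IsLocalization.AtPrime.to_map_mem_maximal_iff L P z)
  haveI : Algebra.EssFiniteType (NodeAlg k 0) L := Algebra.EssFiniteType.of_isLocalization L P.primeCompl
  haveI : Algebra.EssFiniteType k L := Algebra.EssFiniteType.comp k (NodeAlg k 0) L
  haveI : IsNoetherianRing L := Algebra.EssFiniteType.isNoetherianRing k L
  haveI : Algebra.IsSeparable k (ResidueField L) := by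
    have hs : Function.Surjective (algebraMap k (ResidueField L)) := fun r => by
      obtain ⟨z, rfl⟩ := residue_surjective r
      obtain ⟨n, s, rfl⟩ := IsLocalization.exists_mk'_eq P.primeCompl z
      obtain ⟨cn, hcn⟩ := hres n
      obtain ⟨cs, hcs⟩ := hres s
      have hcs0 : cs ≠ 0 := by
        rintro rfl
        exact s.2 (by simpa using hcs)
      have hR : ∀ (x : NodeAlg k 0) (t : k), x - algebraMap k _ t ∈ P →
          residue L (al x) = algebraMap k (ResidueField L) t := fun x t h => by
        have h := (residue_eq_zero_iff _).2 ((hmem _).2 h)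
        rw [map_sub, map_sub, sub_eq_zero] at h
        rw [h, IsScalarTower.algebraMap_apply k L (ResidueField L), IsScalarTower.algebraMap_apply k (NodeAlg k 0) L]
        rfl
      refine ⟨cn / cs, ?_⟩
      rw [map_div₀, ← hR n cn hcn, ← hR s cs hcs, div_eq_iff]
      · rw [← map_mul, IsLocalization.mk'_spec]
      · rw [Ne, residue_eq_zero_iff, hmem]; exact s.2
    exact AlgEquiv.Algebra.isSeparable (AlgEquiv.ofBijective (Algebra.ofId k (ResidueField L))
      ⟨(algebraMap k (ResidueField L)).injective, hs⟩)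
  refine NodalLib.isGeoNode_of_qnode ⟨al (uv 0 0), al (uv 0 1), 0, 1, 0, ?_, ?_, ?_, ?_, al (uv 0 0 + uv 0 1), ?_, ?_⟩
  · exact (IsLocalization.AtPrime.map_eq_maximalIdeal P L).symm.trans
      ((congrArg (Ideal.map al) hPeq).trans (by rw [Ideal.map_span, Set.image_pair]))
  · -- independence through the two tangent directions
    have dir : ∀ i : Fin 2, ∀ p r : L, p * al (uv 0 i) + r * al (uv 0 i.rev) ∈ maximalIdeal L ^ 2 →
        p ∈ maximalIdeal L := fun i p r h => by
      let x : Fin 2 → DualNumber k := fun j => if j = i then DualNumber.eps else 0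
      have hx : x 0 * x 1 = algebraMap k (DualNumber k) 0 := by
        fin_cases i <;> simp [x]
      let φ : NodeAlg k 0 →ₐ[k] DualNumber k := lift 0 x hx
      have hφP : ∀ z ∈ P, TrivSqZeroExt.fst (φ z) = 0 := by
        intro z hz
        rw [hPeq] at hz
        obtain ⟨s, t, rfl⟩ := Ideal.mem_span_pair.1 hz
        simp [φ, x, apply_ite TrivSqZeroExt.fst]
      have hunit : ∀ s : P.primeCompl, IsUnit (φ s) := fun s => by
        obtain ⟨cs, hcs⟩ := hres s
        have := hφP _ hcs
        rw [TrivSqZeroExt.isUnit_iff_isUnit_fst, isUnit_iff_ne_zero]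
        intro h0
        refine s.2 ?_
        rw [map_sub, AlgHom.commutes, TrivSqZeroExt.fst_sub, h0, zero_sub, neg_eq_zero] at this
        have h2 : cs = 0 := by simpa [TrivSqZeroExt.algebraMap_eq_inl] using this
        simpa [h2] using hcs
      let ψ : L →+* DualNumber k := IsLocalization.lift (M := P.primeCompl) (g := φ.toRingHom) hunit
      have hψ : ∀ z, ψ (al z) = φ z := fun z => IsLocalization.lift_eq _ z
      have hψm : ∀ z ∈ maximalIdeal L, TrivSqZeroExt.fst (ψ z) = 0 := by
        intro z hz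
        by_contra h0
        obtain ⟨n, s, rfl⟩ := IsLocalization.exists_mk'_eq P.primeCompl z
        refine h0 ?_
        have hn : n ∈ P := (IsLocalization.AtPrime.mk'_mem_maximal_iff L P n s).1 hz
        have h1 := congrArg (fun t => TrivSqZeroExt.fst (ψ t)) (IsLocalization.mk'_spec L n s)
        simp only [map_mul, TrivSqZeroExt.fst_mul] at h1
        rw [show ψ (algebraMap (NodeAlg k 0) L n) = φ n from hψ n, hφP n hn] at h1
        refine (mul_eq_zero.1 h1).resolve_right ?_
        rw [show ψ (algebraMap (NodeAlg k 0) L s) = φ s from hψ s]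
        exact ((TrivSqZeroExt.isUnit_iff_isUnit_fst).1 (hunit s)).ne_zero
      have hψsq : ∀ z ∈ maximalIdeal L ^ 2, ψ z = 0 := by
        intro z hz
        rw [pow_two] at hz
        refine Submodule.mul_induction_on hz (fun s hs t ht => ?_) (fun s t hs ht => by rw [map_add, hs, ht, add_zero])
        refine TrivSqZeroExt.ext ?_ ?_ <;> simp [hψm s hs, hψm t ht]
      by_contra hp
      have h1 := hψsq _ h
      rw [map_add, map_mul, map_mul, hψ, hψ] at h1
      have hxi : φ (uv 0 i) = DualNumber.eps := by simp [φ, x]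
      have hxj : φ (uv 0 i.rev) = 0 := by fin_cases i <;> simp [φ, x]
      rw [hxi, hxj, mul_zero, add_zero] at h1
      have hu : IsUnit (ψ p) := (IsLocalRing.notMem_maximalIdeal.1 hp).map ψ
      have h2 : (DualNumber.eps : DualNumber k) = 0 := hu.mul_right_eq_zero.1 h1
      simpa using congrArg TrivSqZeroExt.snd h2
    intro p r h
    exact ⟨dir 0 p r h, dir 1 r p (by rw [add_comm] at h; simpa using h)⟩
  · simpa using (isUnit_one (M := L)).neg
  · have : al (uv 0 0) * al (uv 0 1) = 0 := by exact ((map_mul al _ _).symm.trans (congrArg al (uv_mul (0 : k)))).trans (by simp)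
    simp [NodalLib.qf, this]
  · rw [map_add]; exact add_mem ((hmem _).2 (hP 0)) ((hmem _).2 (hP 1))
  · exact IsLocalization.map_nonZeroDivisors_le P.primeCompl L (Submonoid.mem_map_of_mem _ sum_mem_nonZeroDivisors)

theorem isGeoNode_origin (c : k) (P : Ideal (NodeAlg k c)) [P.IsPrime] (hP : ∀ i, uv c i ∈ P) :
    NodalLib.IsGeoNode k (Localization.AtPrime P) := by
  obtain rfl := (origin_eq c P hP).1
  exact isGeoNode_origin' P hP (Localization.AtPrime P)

end Field

end StrictSSLib

end
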