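import Groth.Agent.NodalLib.NodeEtale.Scheme
import Groth.Agent.StrictSSLib.Node

/-!
# Node charts over affine étale neighbourhoods of the base
-/

set_option autoImplicit false
set_option linter.style.haveILetI false
set_option linter.unusedSectionVars false
set_option maxHeartbeats 1000000
set_option synthInstance.maxHeartbeats 100000
set_option backward.isDefEq.respectTransparency false
set_option backward.isDefEq.respectTransparency.types false

universe u

open CategoryTheory CategoryTheory.Limits AlgebraicGeometry IsLocalRing StrictSS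

noncomputable section

namespace StrictSSLib

open NodalLib.NodeEtale in
/-- Near a node of a fibre a family is étale-locally `uv = a` over an affine étale neighbourhood of the base. -/
theorem exists_node_chart {X S : Scheme.{u}} (f : X ⟶ S) [Flat f] [LocallyOfFinitePresentation f] (x : X)
    (hx : @Curv2.IsNode (S.residueField (f x)) _ (f.fiber (f x)) ⟨f.fiberToSpecResidueField (f x)⟩ (f.asFiber x)) :
    ∃ (R : CommRingCat.{u}) (a : R) (U : Scheme.{u}) (gU : U ⟶ X) (gV : Spec R ⟶ S)
      (e : U ⟶ Spec (CommRingCat.of (NodeAlg R a))),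
      Etale gU ∧ Etale gV ∧ Etale e ∧ gU ≫ f = e ≫ nodeToBase R a ≫ gV ∧ x ∈ Set.range gU := by
  obtain ⟨U, V, W, gU, gV, p, e, q, h, r, hgU, hgV, he, hcomm, hep, hsq, u₀, hu₀⟩ := exists_etale_node f x hx
  haveI := hgU
  haveI := hgV
  haveI := he
  obtain ⟨V', hV', hvV, -⟩ := exists_isAffineOpen_mem_and_subset (x := p u₀) (U := ⊤) trivial
  let R := Γ(V, V')
  let j : Spec R ⟶ V := hV'.fromSpec
  obtain ⟨φ, hφ⟩ := Spec.map_surjective (j ≫ h)
  let hh : R := - φ.hom (MvPolynomial.X 0)
  have hpar : φ = CommRingCat.ofHom (paramMap hh) := by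
    refine CommRingCat.hom_ext (MvPolynomial.ringHom_ext (fun n => ?_) fun i => ?_)
    · obtain ⟨m⟩ := n
      exact RingHom.congr_fun (RingHom.ext_int
        ((φ.hom.comp MvPolynomial.C).comp ULift.ringEquiv.symm.toRingHom)
        (((paramMap hh).comp MvPolynomial.C).comp ULift.ringEquiv.symm.toRingHom)) m
    · fin_cases i
      simp [paramMap, hh]
  have hN := isPullback_SpecMap_of_isPushout _ _ _ _ (isPushout_node hh)
  let N' := CommRingCat.of (MvPolynomial (Fin 2) R ⧸ nodeEq hh)
  let qN : Spec N' ⟶ Spec R := Spec.map (CommRingCat.ofHom ((Ideal.Quotient.mk (nodeEq hh)).comp MvPolynomial.C))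
  have hN' : IsPullback (Spec.map (CommRingCat.ofHom (R := Model.{u}) (nodeMap hh))) qN
      (Spec.map (CommRingCat.ofHom (R := ModelBase.{u}) (S := Model.{u}) modelMap.{u})) (j ≫ h) := by
    rw [← hφ, hpar]; exact hN
  let k : Spec N' ⟶ W := hsq.lift (Spec.map (CommRingCat.ofHom (R := Model.{u}) (nodeMap hh))) (qN ≫ j)
    (by rw [hN'.w, Category.assoc])
  have hk : IsPullback k qN q j :=
    IsPullback.of_right (by rwa [IsPullback.lift_fst]) (IsPullback.lift_snd _ _ _ _) hsq
  haveI : IsOpenImmersion k := MorphismProperty.of_isPullback hk.flip (inferInstanceAs (IsOpenImmersion j))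
  haveI : IsOpenImmersion j := inferInstance
  -- identify with the node algebra
  have heq : nodeEq hh = Ideal.span {(MvPolynomial.X 0 * MvPolynomial.X 1 - MvPolynomial.C (-hh) :
      MvPolynomial (Fin 2) R)} := by simp
  let i : Spec (CommRingCat.of (NodeAlg R (-hh))) ⟶ Spec N' :=
    Spec.map (CommRingCat.ofHom (Ideal.quotEquivOfEq heq).toRingHom)
  haveI : IsIso i := by
    haveI : IsIso (CommRingCat.ofHom (Ideal.quotEquivOfEq heq).toRingHom) :=
      (Ideal.quotEquivOfEq heq).toCommRingCatIso.isIso_hom
    infer_instance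
  have hi : i ≫ qN = nodeToBase R (-hh) := by
    rw [← Spec.map_comp]
    rfl
  let m := i ≫ k
  haveI : Etale (pullback.fst e m ≫ gU) := inferInstance
  haveI : Etale (pullback.snd e m) := MorphismProperty.pullback_snd _ _ he
  refine ⟨R, -hh, pullback e m, pullback.fst e m ≫ gU, j ≫ gV, pullback.snd e m, inferInstance, inferInstance,
    inferInstance, ?_, ?_⟩
  · rw [Category.assoc, hcomm, ← hep, Category.assoc, pullback.condition_assoc, ← hi]
    simp only [m, Category.assoc]
    rw [reassoc_of% hk.w]
  · have hmem : e u₀ ∈ Set.range m := by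
      have h1 : q (e u₀) ∈ Set.range j := by
        rw [hV'.range_fromSpec, ← Scheme.Hom.comp_apply, hep]
        exact hvV
      obtain ⟨t, ht⟩ : e u₀ ∈ Set.range k := by
        rw [← hk.isoPullback_hom_fst, Scheme.Hom.comp_base, TopCat.coe_comp,
          (hk.isoPullback.hom.surjective).range_comp, Scheme.Pullback.range_fst]
        exact h1
      refine ⟨(inv i) t, ?_⟩
      rw [← Scheme.Hom.comp_apply]
      simpa [m] using ht
    obtain ⟨w, hw⟩ : u₀ ∈ Set.range (pullback.fst e m) := by
      rw [Scheme.Pullback.range_fst]; exact hmem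
    exact ⟨w, by rw [Scheme.Hom.comp_apply, hw, hu₀]⟩

end StrictSSLib

end
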