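import Groth.Agent.EquidimLib.DimBetween
import Groth.Agent.GeomRedFieldLib.AtPoint
import Groth.Agent.GeomRedFieldLib.Locus

/-!
# Evaluating a morphism to an affine scheme in local rings
-/

set_option autoImplicit false
set_option linter.style.haveILetI false
set_option linter.unusedSectionVars false
set_option maxHeartbeats 1000000
set_option backward.isDefEq.respectTransparency false
set_option backward.isDefEq.respectTransparency.types false

universe u

open CategoryTheory CategoryTheory.Limits AlgebraicGeometry IsLocalRing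

noncomputable section

namespace StrictSSLib

variable {Z : Scheme.{u}} {N : CommRingCat.{u}}

/-- The pullback of functions of an affine target to a local ring of the source. -/
def ev (m : Z ⟶ Spec N) (z : Z) : N →+* Z.presheaf.stalk z := (Spec.preimage (Z.fromSpecStalk z ≫ m)).hom

theorem spec_ev (m : Z ⟶ Spec N) (z : Z) :
    Spec.map (CommRingCat.ofHom (ev m z)) = Z.fromSpecStalk z ≫ m :=
  Spec.map_preimage _

theorem asIdeal_stalkPt (m : Z ⟶ Spec N) (z : Z) (P : PrimeSpectrum (Z.presheaf.stalk z)) :
    (m (EquidimLib.stalkPt z P)).asIdeal = P.asIdeal.comap (ev m z) := by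
  have h : (Spec.map (CommRingCat.ofHom (ev m z))) P = m (Z.fromSpecStalk z P) := by
    rw [spec_ev]
    rfl
  exact (congrArg PrimeSpectrum.asIdeal h).symm

theorem mem_maximalIdeal_iff (m : Z ⟶ Spec N) (z : Z) (r : N) :
    ev m z r ∈ maximalIdeal (Z.presheaf.stalk z) ↔ r ∈ (m z).asIdeal := by
  have h : (Spec.map (CommRingCat.ofHom (ev m z))) (closedPoint (Z.presheaf.stalk z)) = m z := by
    rw [spec_ev]
    exact congrArg m (Scheme.fromSpecStalk_closedPoint (x := z))
  rw [← h]
  rfl

theorem isUnit_ev (m : Z ⟶ Spec N) (z : Z) (r : N) (h : r ∉ (m z).asIdeal) : IsUnit (ev m z r) :=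
  IsLocalRing.notMem_maximalIdeal.1 fun hr => h ((mem_maximalIdeal_iff m z r).1 hr)

theorem ev_comp {Z' : Scheme.{u}} (g : Z' ⟶ Z) (m : Z ⟶ Spec N) (z : Z') :
    ev (g ≫ m) z = (g.stalkMap z).hom.comp (ev m (g z)) := by
  have h : Spec.map (CommRingCat.ofHom (ev (g ≫ m) z)) =
      Spec.map (CommRingCat.ofHom (ev m (g z)) ≫ g.stalkMap z) := by
    rw [spec_ev, Spec.map_comp, spec_ev, Scheme.SpecMap_stalkMap_fromSpecStalk_assoc]
  exact congrArg CommRingCat.Hom.hom (Spec.map_injective h)

theorem ev_base {M : CommRingCat.{u}} (m : Z ⟶ Spec N) (α : M ⟶ N) (z : Z) :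
    ev (m ≫ Spec.map α) z = (ev m z).comp α.hom := by
  have h : Spec.map (CommRingCat.ofHom (ev (m ≫ Spec.map α) z)) =
      Spec.map (α ≫ CommRingCat.ofHom (ev m z)) := by
    rw [spec_ev, Spec.map_comp, spec_ev, Category.assoc]
  exact congrArg CommRingCat.Hom.hom (Spec.map_injective h)

theorem ev_id_eq (R : CommRingCat.{u}) (x : Spec R) :
    CommRingCat.ofHom (ev (𝟙 (Spec R)) x) ≫ (Spec.stalkIso R x).hom =
      CommRingCat.ofHom (algebraMap R (Localization.AtPrime x.asIdeal)) := by
  apply Spec.map_injective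
  rw [Spec.map_comp, spec_ev, Category.comp_id]
  exact GeomRedFieldLib.specMap_stalkIso_fromSpecStalk R x

/-- The equivalence with the localisation. -/
def stalkEquiv (R : CommRingCat.{u}) (x : Spec R) :
    (Spec R).presheaf.stalk x ≃+* Localization.AtPrime x.asIdeal :=
  (Spec.stalkIso R x).commRingCatIsoToRingEquiv

theorem stalkEquiv_ev (R : CommRingCat.{u}) (x : Spec R) (r : R) :
    stalkEquiv R x (ev (𝟙 (Spec R)) x r) = algebraMap R (Localization.AtPrime x.asIdeal) r :=
  congrArg (fun φ : R ⟶ CommRingCat.of (Localization.AtPrime x.asIdeal) => φ.hom r) (ev_id_eq R x)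

theorem exists_mul_eq_zero {R : CommRingCat.{u}} (x : Spec R) {r : R} (h : ev (𝟙 (Spec R)) x r = 0) :
    ∃ t ∉ x.asIdeal, t * r = 0 := by
  have h1 : algebraMap R (Localization.AtPrime x.asIdeal) r = 0 := by rw [← stalkEquiv_ev, h, map_zero]
  obtain ⟨⟨t, ht⟩, htr⟩ := (IsLocalization.map_eq_zero_iff x.asIdeal.primeCompl _ r).1 h1
  exact ⟨t, ht, htr⟩

/-- The maximal ideal downstairs is the image of the prime of the point. -/
theorem map_maximalIdeal_stalk {R : CommRingCat.{u}} (f : Z ⟶ Spec R) (z : Z) :
    (maximalIdeal ((Spec R).presheaf.stalk (f z))).map (f.stalkMap z).hom = (f z).asIdeal.map (ev f z) := by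
  have h1 : (f z).asIdeal.map (ev (𝟙 (Spec R)) (f z)) = maximalIdeal ((Spec R).presheaf.stalk (f z)) := by
    refine Function.LeftInverse.injective (g := Ideal.comap (stalkEquiv R (f z)).toRingHom)
      (fun I => Ideal.comap_map_of_bijective _ (stalkEquiv R (f z)).bijective) ?_
    refine (Ideal.map_map _ _).trans ?_
    refine Eq.trans ?_ (map_maximalIdeal_of_surjective (stalkEquiv R (f z)).toRingHom
      (stalkEquiv R (f z)).surjective).symm
    exact (congrArg (fun φ => Ideal.map φ (f z).asIdeal)
      (RingHom.ext (stalkEquiv_ev R (f z)) : (stalkEquiv R (f z)).toRingHom.comp (ev (𝟙 (Spec R)) (f z)) =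
        algebraMap R (Localization.AtPrime (f z).asIdeal))).trans (IsLocalization.AtPrime.map_eq_maximalIdeal _ _)
  rw [← h1, Ideal.map_map, ← ev_comp, Category.comp_id]

/-- A flat family over a domain does not kill nonzero functions of the base. -/
theorem ev_injective {R : CommRingCat.{u}} [IsDomain R] (f : Z ⟶ Spec R) (z : Z) (h : (f.stalkMap z).hom.Flat) :
    Function.Injective (ev f z) := by
  have h1 : Function.Injective (ev (𝟙 (Spec R)) (f z)) := fun r r' hr => by
    have := congrArg (stalkEquiv R (f z)) hr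
    rw [stalkEquiv_ev, stalkEquiv_ev] at this
    exact IsLocalization.injective (Localization.AtPrime (f z).asIdeal)
      (f z).asIdeal.primeCompl_le_nonZeroDivisors this
  have h2 : Function.Injective (f.stalkMap z).hom := by
    algebraize [(f.stalkMap z).hom]
    haveI : Module.FaithfullyFlat _ _ := @Module.FaithfullyFlat.of_flat_of_isLocalHom _ _ _ _ _ _ _
      h (f.toLRSHom.prop z)
    exact FaithfulSMul.algebraMap_injective _ _
  rw [← Category.comp_id f, ev_comp]
  exact h2.comp h1

end StrictSSLib

end
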