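import Groth.Agent.StrictSSLib.Branch
import Groth.Agent.StrictSSLib.Chart
import Groth.Agent.StrictSSLib.Ev
import Groth.Agent.DepthLib.SmoothCons

/-!
# A morphism of nodal models does not map an isolated smooth point to a node
-/

set_option autoImplicit false
set_option linter.style.haveILetI false
set_option linter.unusedSectionVars false
set_option maxHeartbeats 1000000
set_option synthInstance.maxHeartbeats 100000
set_option backward.isDefEq.respectTransparency false
set_option backward.isDefEq.respectTransparency.types false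

universe u

open CategoryTheory CategoryTheory.Limits AlgebraicGeometry IsLocalRing StrictSS NodalLib

noncomputable section

namespace StrictSSLib

theorem isDomain_stalk_fibre {X S : Scheme.{u}} (f : X ⟶ S) [LocallyOfFinitePresentation f] (x : X)
    (hx : x ∈ f.smoothLocus) : IsDomain ((f.fiber (f x)).presheaf.stalk (f.asFiber x)) := by
  obtain ⟨U, hxU, hU⟩ := (smooth_nhd_iff f x).2 hx
  let O := f.fiberι (f x) ⁻¹ᵁ U
  haveI : Smooth (O.ι ≫ f.fiberToSpecResidueField (f x)) :=
    MorphismProperty.of_isPullback (P := @Smooth)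
      ((isPullback_morphismRestrict (f.fiberι (f x)) U).paste_vert (IsPullback.of_hasPullback f (S.fromSpecResidueField (f x))))
      hU
  let z : (O : Scheme.{u}) := ⟨f.asFiber x, show f.fiberι (f x) (f.asFiber x) ∈ U by rw [f.fiberι_asFiber]; exact hxU⟩
  haveI := Groth.Agent.S7791.isDomain_stalk_of_smooth (S.residueField (f x)) _ (O.ι ≫ f.fiberToSpecResidueField (f x)) z
  exact MulEquiv.isDomain ((O : Scheme.{u}).presheaf.stalk z)
    (asIso (O.ι.stalkMap z)).commRingCatIsoToRingEquiv.toMulEquiv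

theorem isClosed_singleton_of_finite {X : Type u} [TopologicalSpace X] [JacobsonSpace X] {F : Set X}
    (hF : IsClosed F) (hfin : F.Finite) {x : X} (hx : x ∈ F) : IsClosed ({x} : Set X) := by
  have h1 : IsClosed (closure ({x} : Set X) ∩ closedPoints X) := by
    rw [← Set.biUnion_of_singleton (closure ({x} : Set X) ∩ closedPoints X)]
    exact ((hfin.subset (closure_minimal (Set.singleton_subset_iff.2 hx) hF)).inter_of_left _).isClosed_biUnion
      fun y hy => hy.2
  have h2 : x ∈ closure (closure ({x} : Set X) ∩ closedPoints X) := by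
    rw [closure_inter_closedPoints isClosed_closure]
    exact subset_closure rfl
  rw [h1.closure_eq] at h2
  exact h2.2

variable {R : Type u} [CommRing R]

/-- Near a point with smooth fibre the ideal of the closed fibre is prime, and it is not maximal at closed points. -/
theorem prime_fibre [IsNoetherianRing R] {X : Scheme.{u}} (p : X ⟶ Spec (CommRingCat.of R)) [LocallyOfFinitePresentation p]
    (x : X) (hx : x ∈ p.smoothLocus) (ϖ : R) (hϖ : (p x).asIdeal = Ideal.span {ϖ}) :
    (Ideal.span {ev p x ϖ}).IsPrime ∧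
      (IsClosed ({x} : Set X) → CurveDims (p.fiber (p x)) → Ideal.span {ev p x ϖ} ≠ maximalIdeal _) := by
  haveI := isDomain_stalk_fibre p x hx
  obtain ⟨τ, hs, hk, -⟩ := SmoothCritLib.exists_fibre_stalk_map p x
  have hk' : RingHom.ker τ.hom = Ideal.span {ev p x ϖ} := by
    rw [hk, map_maximalIdeal_stalk, hϖ, Ideal.map_span, Set.image_singleton]
  refine ⟨hk' ▸ RingHom.ker_isPrime _, fun hc hd hmax => ?_⟩
  haveI : LocallyOfFiniteType (p.fiberToSpecResidueField (p x)) := locallyOfFiniteType_fiberTo p (p x)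
  haveI : IsLocallyNoetherian (p.fiber (p x)) :=
    LocallyOfFiniteType.isLocallyNoetherian (p.fiberToSpecResidueField (p x))
  refine ((curveDims_iff _).1 hd (p.asFiber x)).2 ?_ ?_
  · refine ringKrullDim_eq_zero_of_isField (MulEquiv.isField ?_
      (RingHom.quotientKerEquivOfSurjective hs).symm.toMulEquiv)
    exact (Ideal.Quotient.maximal_ideal_iff_isField_quotient _).1 (by
      rw [hk', hmax]; exact maximalIdeal.isMaximal _)
  · have e : ({p.asFiber x} : Set (p.fiber (p x))) = p.fiberι (p x) ⁻¹' {x} := Set.ext fun z => by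
      constructor
      · rintro rfl; exact p.fiberι_asFiber x
      · intro hz; exact (p.fiberι (p x)).isEmbedding.injective (hz.trans (p.fiberι_asFiber x).symm)
    rw [e]
    exact hc.preimage (p.fiberι (p x)).continuous

/-- Splitting a power of a prime. -/
theorem exists_pow_mul_unit {O : Type u} [CommRing O] [IsDomain O] {π : O} (hπ : Prime π) :
    ∀ (n : ℕ) (u v : O), IsUnit (0 + 1 : O) → u * v ∣ π ^ n → (IsUnit u ∨ π ∣ u)
  | 0, u, v, _, h => Or.inl (isUnit_of_mul_isUnit_left (isUnit_of_dvd_one (by simpa using h)))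
  | n + 1, u, v, h1, h => by
    by_cases hu : π ∣ u
    · exact Or.inr hu
    obtain ⟨w, hw⟩ := h
    have hd : π ∣ u * v * w := hw ▸ dvd_pow_self π (Nat.succ_ne_zero n)
    rcases hπ.dvd_or_dvd hd with h2 | ⟨w', rfl⟩
    · rcases hπ.dvd_or_dvd h2 with h3 | ⟨v', rfl⟩
      · exact absurd h3 hu
      · exact exists_pow_mul_unit hπ n u v' h1 ⟨w, mul_left_cancel₀ hπ.ne_zero (by
          rw [← pow_succ', hw]; ring)⟩
    · exact exists_pow_mul_unit hπ n u v h1 ⟨w', mul_left_cancel₀ hπ.ne_zero (by
        rw [← pow_succ', hw]; ring)⟩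

section Model

variable {A : Type u} [CommRing A] (a : A)

theorem decomp (z : NodeAlg A a) :
    ∃ r : A, z - algebraMap A _ r ∈ Ideal.span {uv a 0, uv a 1} := by
  obtain ⟨f, rfl⟩ := Ideal.Quotient.mk_surjective z
  induction f using MvPolynomial.induction_on with
  | C r => exact ⟨r, by simp [← Ideal.Quotient.mk_algebraMap]⟩
  | add p q hp hq =>
    obtain ⟨s, hs⟩ := hp
    obtain ⟨t, ht⟩ := hq
    refine ⟨s + t, ?_⟩
    simpa only [map_add, add_sub_add_comm] using add_mem hs ht
  | mul_X p i _ =>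
    refine ⟨0, ?_⟩
    rw [map_zero, sub_zero, map_mul]
    exact Ideal.mul_mem_left _ _ (Ideal.subset_span (by fin_cases i <;> simp))

theorem le_of_base_le {w w' : Ideal (NodeAlg A a)} (hw' : ∀ i, uv a i ∈ w') (hw : ∀ i, uv a i ∈ w)
    (h : w.comap (algebraMap A _) ≤ w'.comap (algebraMap A _)) : w ≤ w' := fun z hz => by
  obtain ⟨r, hr⟩ := decomp a z
  have h0 : ∀ J : Ideal (NodeAlg A a), (∀ i, uv a i ∈ J) → Ideal.span {uv a 0, uv a 1} ≤ J := fun J hJ =>
    Ideal.span_le.2 (Set.pair_subset (hJ 0) (hJ 1))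
  have h1 : algebraMap A _ r ∈ w := by simpa using sub_mem hz (h0 w hw hr)
  have h2 : algebraMap A _ r ∈ w' := h h1
  simpa using add_mem (h0 w' hw' hr) h2

theorem smooth_of_not_mem {U T : Scheme.{u}} (e : U ⟶ Spec (CommRingCat.of (NodeAlg A a))) [Etale e]
    (g : Spec (CommRingCat.of A) ⟶ T) [Etale g] (z : U) (i : Fin 2) (hi : uv a i ∉ (e z).asIdeal) :
    ∃ O : U.Opens, z ∈ O ∧ Smooth (O.ι ≫ e ≫ nodeToBase A a ≫ g) := by
  haveI := smooth_away a i
  let m : Spec (CommRingCat.of (Localization.Away (uv a i))) ⟶ Spec (CommRingCat.of (NodeAlg A a)) :=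
    Spec.map (CommRingCat.ofHom (algebraMap _ _))
  haveI : IsOpenImmersion m := IsOpenImmersion.of_isLocalization (uv a i)
  haveI : Smooth (m ≫ nodeToBase A a) := by
    rw [← Spec.map_comp, ← CommRingCat.ofHom_comp, ← IsScalarTower.algebraMap_eq]
    exact (HasRingHomProperty.Spec_iff (P := @Smooth)).2 (RingHom.smooth_algebraMap.2 inferInstance)
  haveI : Etale (pullback.snd e m) := MorphismProperty.pullback_snd _ _ ‹Etale e›
  refine ⟨(pullback.fst e m).opensRange, ?_, ?_⟩
  · show z ∈ Set.range (pullback.fst e m)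
    rw [Scheme.Pullback.range_fst]
    show e z ∈ Set.range (PrimeSpectrum.comap (algebraMap (NodeAlg A a) (Localization.Away (uv a i))))
    rw [PrimeSpectrum.localization_away_comap_range _ (uv a i)]
    exact hi
  · rw [← IsOpenImmersion.isoOfRangeEq_inv_fac (pullback.fst e m) (pullback.fst e m).opensRange.ι (by simp),
      Category.assoc, pullback.condition_assoc, ← Category.assoc m]
    infer_instance

end Model

theorem maximalIdeal_of_etale [IsLocalRing R] {A : Type u} [CommRing A] [Algebra R A] [Algebra.Etale R A]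
    (v : Ideal A) [v.IsPrime] (hv : v.comap (algebraMap R A) = maximalIdeal R) :
    maximalIdeal (Localization.AtPrime v) = (maximalIdeal R).map (algebraMap R (Localization.AtPrime v)) := by
  haveI : Algebra.FormallyUnramified A (Localization.AtPrime v) :=
    Algebra.FormallyUnramified.of_isLocalization v.primeCompl
  haveI : Algebra.FormallyUnramified R (Localization.AtPrime v) := Algebra.FormallyUnramified.comp R A _
  haveI : Algebra.EssFiniteType A (Localization.AtPrime v) := Algebra.EssFiniteType.of_isLocalization _ v.primeCompl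
  haveI : Algebra.EssFiniteType R (Localization.AtPrime v) := Algebra.EssFiniteType.comp R A _
  haveI : IsLocalHom (algebraMap R (Localization.AtPrime v)) := ⟨fun r hr => by
    by_contra hn
    have h1 : algebraMap R A r ∈ v := by
      have : r ∈ v.comap (algebraMap R A) := hv ▸ (mem_maximalIdeal r).2 hn
      exact this
    rw [IsScalarTower.algebraMap_apply R A (Localization.AtPrime v)] at hr
    exact (IsLocalRing.mem_maximalIdeal _).1
      ((IsLocalization.AtPrime.to_map_mem_maximal_iff (Localization.AtPrime v) v _).2 h1) hr⟩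
  exact Algebra.FormallyUnramified.map_maximalIdeal.symm

variable [IsDomain R] [IsDiscreteValuationRing R]

/-- The parameter of the node chart does not vanish if the generic fibre is smooth. -/
theorem param_ne_zero {A : Type u} [CommRing A] [Algebra R A] [Algebra.Etale R A] (a : A)
    {U : Scheme.{u}} (e : U ⟶ Spec (CommRingCat.of (NodeAlg A a))) [Etale e] (u₀ : U)
    (h0 : ∀ i, uv a i ∈ (e u₀).asIdeal) (ϖ : R) (hϖ : Irreducible ϖ)
    (hdom : ∀ w : U, algebraMap R A ϖ ∉ (e w).asIdeal.comap (algebraMap A (NodeAlg A a)) →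
      IsDomain (U.presheaf.stalk w)) :
    algebraMap A (Localization.AtPrime ((e u₀).asIdeal.comap (algebraMap A (NodeAlg A a)))) a ≠ 0 := by
  intro ha
  let v := (e u₀).asIdeal.comap (algebraMap A (NodeAlg A a))
  let L := Localization.AtPrime v
  obtain ⟨⟨t, ht⟩, hta⟩ := (IsLocalization.map_eq_zero_iff v.primeCompl L a).1 ha
  haveI : Module.Flat A L := IsLocalization.flat L v.primeCompl
  haveI : Module.Flat R L := Module.Flat.trans R A L
  -- a prime below `v` missing the uniformiser
  obtain ⟨P, hP, hPϖ, hPv⟩ : ∃ P : Ideal A, P.IsPrime ∧ algebraMap R A ϖ ∉ P ∧ P ≤ v := by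
    have hd : Disjoint ((⊥ : Ideal L) : Set L) (Submonoid.powers (algebraMap R L ϖ) : Set L) := by
      rw [Set.disjoint_left]
      rintro z hz ⟨n, rfl⟩
      have hz0 : (ϖ ^ n) • (1 : L) = (ϖ ^ n) • (0 : L) := by
        rw [smul_zero, Algebra.smul_def, mul_one, map_pow]
        exact hz
      exact one_ne_zero ((Module.Flat.isSMulRegular_of_nonZeroDivisors
        (mem_nonZeroDivisors_of_ne_zero (pow_ne_zero n hϖ.ne_zero))) hz0)
    obtain ⟨Q, hQ, -, hQd⟩ := Ideal.exists_le_prime_disjoint _ _ hd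
    refine ⟨Q.comap (algebraMap A L), inferInstance, fun h => ?_, fun z hz => ?_⟩
    · rw [Ideal.mem_comap, ← IsScalarTower.algebraMap_apply] at h
      exact Set.disjoint_left.1 hQd h (Submonoid.mem_powers _)
    · by_contra hzv
      exact hQ.ne_top (Q.eq_top_of_isUnit_mem hz (IsLocalization.map_units L (⟨z, hzv⟩ : v.primeCompl)))
  haveI := hP
  have haP : a ∈ P := by
    have : t * a ∈ P := by
      rw [show t * a = 0 from hta]; exact zero_mem _
    exact (hP.mem_or_mem this).resolve_left fun h => ht (hPv h)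
  let D := A ⧸ P
  have ha0 : algebraMap A D a = 0 := Ideal.Quotient.eq_zero_iff_mem.2 haP
  let σ : NodeAlg A a →ₐ[A] D := lift a (fun _ => 0) (by rw [ha0, mul_zero])
  let w₁ : Spec (CommRingCat.of (NodeAlg A a)) := ⟨RingHom.ker σ.toRingHom, RingHom.ker_isPrime _⟩
  have hw₁ : ∀ i, uv a i ∈ w₁.asIdeal := fun i => lift_uv a _ _ i
  have hw₁A : ∀ c : A, algebraMap A (NodeAlg A a) c ∈ w₁.asIdeal ↔ c ∈ P := fun c => by
    show σ (algebraMap A _ c) = 0 ↔ _
    rw [AlgHom.commutes]
    exact Ideal.Quotient.eq_zero_iff_mem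
  have hle : w₁.asIdeal ≤ (e u₀).asIdeal := le_of_base_le a h0 hw₁ fun c hc => hPv ((hw₁A c).1 hc)
  obtain ⟨u₁, hu₁s, hu₁⟩ := Flat.generalizingMap e ((PrimeSpectrum.le_iff_specializes w₁ (e u₀)).1 hle)
  haveI := hdom u₁ (by
    rw [hu₁, Ideal.mem_comap, hw₁A]
    exact hPϖ)
  let g := e.stalkMap u₁
  have hg : Function.Injective g.hom := by
    algebraize [g.hom]
    haveI : Module.FaithfullyFlat _ _ := @Module.FaithfullyFlat.of_flat_of_isLocalHom _ _ _ _ _ _ _
      (Flat.stalkMap e u₁) (e.toLRSHom.prop u₁)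
    exact FaithfulSMul.algebraMap_injective _ _
  have hz : ∃ i, ev (𝟙 (Spec (CommRingCat.of (NodeAlg A a)))) (e u₁) (uv a i) = 0 := by
    have h1 : ev (𝟙 (Spec (CommRingCat.of (NodeAlg A a)))) (e u₁) (uv a 0 * uv a 1) = 0 := by
      have hu : IsUnit (ev (𝟙 (Spec (CommRingCat.of (NodeAlg A a)))) (e u₁) (algebraMap A _ t)) := by
        refine isUnit_ev _ _ _ fun h => ht (hPv ((hw₁A t).1 ?_))
        rw [Scheme.Hom.id_base] at h
        exact hu₁ ▸ h
      refine hu.mul_right_eq_zero.1 ?_
      rw [← map_mul, uv_mul, ← map_mul, show t * a = 0 from hta, map_zero, map_zero]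
    have h2 : g.hom (ev (𝟙 _) (e u₁) (uv a 0)) * g.hom (ev (𝟙 _) (e u₁) (uv a 1)) = 0 := by
      rw [← map_mul, ← map_mul, h1, map_zero]
    rcases mul_eq_zero.1 h2 with h | h
    · exact ⟨0, hg (h.trans (map_zero _).symm)⟩
    · exact ⟨1, hg (h.trans (map_zero _).symm)⟩
  obtain ⟨i, hi⟩ := hz
  obtain ⟨s, hs, hsz⟩ := exists_mul_eq_zero _ hi
  rw [hu₁] at hs
  let x : Fin 2 → DualNumber D := fun j => if j = i then DualNumber.eps else 0
  have hxx : x 0 * x 1 = algebraMap A (DualNumber D) a := by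
    rw [IsScalarTower.algebraMap_apply A D (DualNumber D), ha0, map_zero]
    fin_cases i <;> simp [x]
  let φ := lift a x hxx
  have hfst : ∀ z, TrivSqZeroExt.fst (φ z) = σ z := fun z => by
    refine DFunLike.congr_fun (algHom_ext' a (f := ((TrivSqZeroExt.fstHom D D D).restrictScalars A).comp φ)
      (g := σ) fun j => ?_) z
    simp [φ, σ, x, apply_ite TrivSqZeroExt.fst]
  have h3 := congrArg (fun z => TrivSqZeroExt.snd z) (congrArg φ hsz)
  simp [map_mul, φ, x] at h3
  exact hs (show σ s = 0 by rw [← hfst]; exact h3)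

/-- A point at which a morphism of nodal models is smooth and quasi-finite over a node does not exist. -/
theorem not_smooth {X Y : Scheme.{u}} (p : X ⟶ Spec (CommRingCat.of R)) [LocallyOfFinitePresentation p]
    (q : Y ⟶ Spec (CommRingCat.of R)) [LocallyOfFinitePresentation q] (hp : Curv2.IsNodalFamily p) (hq : Curv2.IsNodalFamily q)
    (hgen : ∀ y : Y, ∀ ϖ : R, Irreducible ϖ → ϖ ∉ (q y).asIdeal → IsDomain (Y.presheaf.stalk y) ∧
      ∀ (U : Scheme.{u}) (g : U ⟶ Y), Etale g → ∀ w, g w = y → IsDomain (U.presheaf.stalk w))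
    (φ : X ⟶ Y) (hφ : φ ≫ q = p) (y : Y) (hys : q y = closedPoint R) (hy : y ∉ q.smoothLocus)
    (hfin : (φ ⁻¹' ({y} : Set Y)).Finite) (x : X) (hx : φ x = y) : x ∉ p.smoothLocus := by
  intro hsm
  haveI := hq.1
  haveI := hq.2.1
  obtain ⟨ϖ, hϖ⟩ := IsDiscreteValuationRing.exists_irreducible R
  have hm : maximalIdeal R = Ideal.span {ϖ} := hϖ.maximalIdeal_eq
  -- `y` is a node, in particular closed
  obtain ⟨hFd, hFn⟩ := hq.2.2 (q y)
  letI : (q.fiber (q y)).Over (Spec (CommRingCat.of ((Spec (CommRingCat.of R)).residueField (q y)))) :=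
    ⟨q.fiberToSpecResidueField (q y)⟩
  haveI : LocallyOfFiniteType (q.fiber (q y) ↘ Spec (CommRingCat.of ((Spec (CommRingCat.of R)).residueField (q y)))) :=
    locallyOfFiniteType_fiberTo q (q y)
  haveI := lfp_over ((Spec (CommRingCat.of R)).residueField (q y)) (X := q.fiber (q y))
  haveI : LocallyOfFinitePresentation (q.fiberToSpecResidueField (q y)) :=
    lfp_over ((Spec (CommRingCat.of R)).residueField (q y)) (X := q.fiber (q y))
  have hns : q.asFiber y ∉ (q.fiberToSpecResidueField (q y)).smoothLocus := fun h =>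
    hy ((DepthLib.mem_smoothLocus_iff q y).2 ⟨Flat.stalkMap q y, h⟩)
  have hyF : IsClosed ({q.asFiber y} : Set (q.fiber (q y))) := by
    by_contra hc
    haveI : IsLocallyNoetherian (q.fiber (q y)) :=
      LocallyOfFiniteType.isLocallyNoetherian (q.fiberToSpecResidueField (q y))
    obtain ⟨z, hz, hyz⟩ := MiscFlat6.exists_closed_specializes (q.asFiber y)
    have h1 := (FibDimLib.ringKrullDim_stalk_lt hyz fun e => hc (e ▸ hz)).trans_le
      ((curveDims_iff _).1 hFd z).1
    refine hns (mem_smoothLocus_of_dim_zero ((Spec (CommRingCat.of R)).residueField (q y))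
      (geometricallyReduced _ hFn) (isReduced _ hFn) _ (le_antisymm ?_ ringKrullDim_nonneg_of_nontrivial))
    revert h1
    cases ringKrullDim ((q.fiber (q y)).presheaf.stalk (q.asFiber y)) with
    | bot => simp
    | coe n =>
      intro h1
      exact_mod_cast (ENat.lt_one_iff_eq_zero.1 (by exact_mod_cast h1)).le
  have hnode : @Curv2.IsNode ((Spec (CommRingCat.of R)).residueField (q y)) _ (q.fiber (q y))
      ⟨q.fiberToSpecResidueField (q y)⟩ (q.asFiber y) :=
    (hFn _ hyF).resolve_left fun h => hns ((smooth_nhd_iff _ _).1 h)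
  have hsc : IsClosed ({q y} : Set (Spec (CommRingCat.of R))) := by
    rw [hys]; exact (PrimeSpectrum.isClosed_singleton_iff_isMaximal _).2 (maximalIdeal.isMaximal R)
  have hyc : IsClosed ({y} : Set Y) := by
    have h1 := (Topology.IsClosedEmbedding.mk (q.fiberι (q y)).isEmbedding ?_).isClosedMap _ hyF
    · rwa [Set.image_singleton, q.fiberι_asFiber] at h1
    · rw [q.range_fiberι]
      exact hsc.preimage q.continuous
  haveI : IsNoetherianRing (CommRingCat.of R) := inferInstanceAs (IsNoetherianRing R)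
  haveI : LocallyOfFiniteType p := inferInstance
  have hφclosed : IsClosed (φ ⁻¹' ({y} : Set Y)) := hyc.preimage φ.continuous
  -- closedness of the points over `y`
  have hcl : ∀ ξ, φ ξ = y → IsClosed ({ξ} : Set X) := fun ξ hξ => by
    have hps : ∀ z, φ z = y → z ∈ p ⁻¹' {q y} := fun z hz => by
      show p z = q y
      rw [← hφ, Scheme.Hom.comp_apply, hz]
    haveI : LocallyOfFiniteType (p.fiberToSpecResidueField (q y)) := locallyOfFiniteType_fiberTo p (q y)
    haveI : JacobsonSpace (p.fiber (q y)) := LocallyOfFiniteType.jacobsonSpace (p.fiberToSpecResidueField (q y))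
    obtain ⟨z, rfl⟩ : ξ ∈ Set.range (p.fiberι (q y)) := (p.range_fiberι (q y)).symm ▸ hps ξ hξ
    have h1 := isClosed_singleton_of_finite (hφclosed.preimage (p.fiberι (q y)).continuous)
      (hfin.preimage (p.fiberι (q y)).isEmbedding.injective.injOn) (x := z) hξ
    have h2 := (Topology.IsClosedEmbedding.mk (p.fiberι (q y)).isEmbedding
      (by rw [p.range_fiberι]; exact hsc.preimage p.continuous)).isClosedMap _ h1
    rwa [Set.image_singleton] at h2
  have hpx : p x = q y := by rw [← hφ, Scheme.Hom.comp_apply, hx]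
  have hpx' : (p x).asIdeal = Ideal.span {ϖ} := by rw [hpx, hys]; exact hm
  obtain ⟨hprime, hnmax⟩ := prime_fibre p x hsm ϖ hpx'
  have hne := hnmax (hcl x hx) ((isNodalFamily_iff p).1 hp |>.2.2 (p x)).1
  -- a generization of `x` in the closed fibre
  let ξ := EquidimLib.stalkPt x ⟨_, hprime⟩
  have hξϖ : ϖ ∈ (p ξ).asIdeal := by
    show ϖ ∈ (p (EquidimLib.stalkPt x ⟨_, hprime⟩)).asIdeal
    rw [asIdeal_stalkPt]
    exact Ideal.mem_span_singleton_self _
  have hξx : ξ ≠ x := fun h => hne (congrArg PrimeSpectrum.asIdeal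
    (EquidimLib.stalkPt_injective x (a₁ := ⟨_, hprime⟩) (a₂ := closedPoint _) (h.trans
      (Scheme.fromSpecStalk_closedPoint (x := x)).symm)))
  have hξs : ξ ⤳ x := EquidimLib.stalkPt_specializes x _
  -- the chart
  obtain ⟨A, a, U, gU, gV, e, hgU, hgV, he, hcomm, u₀, hu₀⟩ := exists_node_chart q y hnode
  obtain ⟨α, rfl⟩ := Spec.map_surjective gV
  algebraize [α.hom]
  haveI : Algebra.Etale R A := (HasRingHomProperty.Spec_iff (P := @Etale)).1 hgV
  have h0 : ∀ i, uv a i ∈ (e u₀).asIdeal := fun i => by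
    by_contra hi
    obtain ⟨O, hO, hOs⟩ := smooth_of_not_mem a e (Spec.map α) u₀ i hi
    rw [← hcomm] at hOs
    have h1 := (smooth_nhd_iff _ u₀).1 ⟨O, hO, hOs⟩
    rw [smooth_etale_iff, hu₀] at h1
    exact hy h1
  have hbase : ∀ w : U, ∀ r : R, r ∈ (q (gU w)).asIdeal ↔
      algebraMap R A r ∈ (e w).asIdeal.comap (algebraMap A (NodeAlg A a)) := fun w r => by
    have h1 : q (gU w) = Spec.map α (nodeToBase A a (e w)) := by
      rw [← Scheme.Hom.comp_apply, hcomm]; rfl
    rw [h1]
    rfl
  have hane := param_ne_zero (R := R) a e u₀ h0 ϖ hϖ fun w hw =>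
    (hgen (gU w) ϖ hϖ fun h => hw ((hbase w ϖ).1 h)).2 U gU hgU w rfl
  let v := (e u₀).asIdeal.comap (algebraMap A (NodeAlg A a))
  let L := Localization.AtPrime v
  have hv : v.comap (algebraMap R A) = maximalIdeal R := by
    ext r
    rw [Ideal.mem_comap, ← hbase u₀ r, hu₀, hys]
    rfl
  have hvmax : maximalIdeal L = Ideal.span {algebraMap R L ϖ} := by
    rw [maximalIdeal_of_etale v hv, hm, Ideal.map_span, Set.image_singleton]
  haveI : Algebra.EssFiniteType A L := Algebra.EssFiniteType.of_isLocalization L v.primeCompl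
  haveI : Algebra.EssFiniteType R L := Algebra.EssFiniteType.comp R A L
  haveI : IsNoetherianRing L := Algebra.EssFiniteType.isNoetherianRing R L
  obtain ⟨n, w, hw, hawn⟩ : ∃ (n : ℕ) (w : L), IsUnit w ∧ algebraMap A L a = algebraMap R L ϖ ^ n * w := by
    by_contra hcon
    push Not at hcon
    refine hane ?_
    have : ∀ n, algebraMap A L a ∈ maximalIdeal L ^ n := fun n => by
      induction n with
      | zero => simp
      | succ n ih =>
        rw [hvmax, Ideal.span_singleton_pow, Ideal.mem_span_singleton] at ih ⊢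
        obtain ⟨w, hw⟩ := ih
        have hwm : w ∈ maximalIdeal L := (mem_maximalIdeal w).2 fun h => hcon n w h hw
        rw [hvmax, Ideal.mem_span_singleton] at hwm
        obtain ⟨w', rfl⟩ := hwm
        exact ⟨w', by rw [hw, pow_succ, mul_assoc]⟩
    have h2 : algebraMap A L a ∈ ⨅ n, maximalIdeal L ^ n := Ideal.mem_iInf.2 this
    rwa [Ideal.iInf_pow_eq_bot_of_isLocalRing _ (maximalIdeal.isMaximal L).ne_top] at h2
  -- pull back
  obtain ⟨x', hx'1, hx'2⟩ := Scheme.Pullback.exists_preimage_pullback (f := φ) (g := gU) x u₀ (hx.trans hu₀.symm)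
  let p' := pullback.fst φ gU ≫ p
  haveI : Etale (pullback.fst φ gU) := MorphismProperty.pullback_fst _ _ hgU
  have hsm' : x' ∈ p'.smoothLocus := by rw [smooth_etale_iff, hx'1]; exact hsm
  let m := pullback.snd φ gU ≫ e
  have hpm : p' = m ≫ nodeToBase A a ≫ Spec.map α := by
    rw [show p' = pullback.fst φ gU ≫ φ ≫ q by rw [hφ], pullback.condition_assoc, hcomm, Category.assoc]
  have hme : m x' = e u₀ := by rw [Scheme.Hom.comp_apply, hx'2]
  let O := (pullback φ gU).presheaf.stalk x'
  have hp'x : (p' x').asIdeal = Ideal.span {ϖ} := by rw [Scheme.Hom.comp_apply, hx'1, hpx']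
  obtain ⟨hprime', -⟩ := prime_fibre p' x' hsm' ϖ hp'x
  let ρ : A →+* O := (ev m x').comp (algebraMap A (NodeAlg A a))
  have hρ : ∀ r : R, ev p' x' r = ρ (algebraMap R A r) := fun r => by
    rw [hpm, ← Spec.map_comp, ev_base]
    rfl
  let ψ : L →+* O := IsLocalization.lift (M := v.primeCompl) (g := ρ) fun c =>
    isUnit_ev m x' _ (by rw [hme]; exact c.2)
  have hψ : ψ (algebraMap R L ϖ) = ev p' x' ϖ := by
    rw [hρ, IsScalarTower.algebraMap_apply R A L]
    exact IsLocalization.lift_eq _ _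
  haveI : LocallyOfFinitePresentation p' := inferInstance
  have huv : ev m x' (uv a 0) * ev m x' (uv a 1) = ev p' x' ϖ ^ n * ψ w := by
    rw [← map_mul, uv_mul, show ev m x' (algebraMap A (NodeAlg A a) a) = ψ (algebraMap A L a) from
      show ρ a = ψ (algebraMap A L a) from (IsLocalization.lift_eq _ a).symm, hawn, map_mul, map_pow, hψ]
  have hflat : (p'.stalkMap x').hom.Flat := by
    haveI : LocallyOfFinitePresentation (p'.fiberToSpecResidueField (p' x')) :=
      MorphismProperty.pullback_snd (P := @LocallyOfFinitePresentation) _ _ inferInstance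
    exact ((DepthLib.mem_smoothLocus_iff p' x').1 hsm').1
  haveI hdomO : IsDomain O := by
    haveI := isDomain_stalk_fibre p' x' hsm'
    exact GeomIntLib.isDomain_stalk_dvr p' x' hflat
  have hdvd : ∀ i, ev p' x' ϖ ∣ ev m x' (uv a i) := fun i => by
    haveI : IsDomain (CommRingCat.of R) := inferInstanceAs (IsDomain R)
    have hπ0 : ev p' x' ϖ ≠ 0 := fun h => hϖ.ne_zero (ev_injective p' x' hflat (h.trans (map_zero _).symm))
    have hπ : Prime (ev p' x' ϖ) := (Ideal.span_singleton_prime hπ0).1 hprime'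
    refine (exists_pow_mul_unit hπ n (ev m x' (uv a i)) (ev m x' (uv a i.rev)) (by simp) ?_).resolve_left ?_
    · rw [← map_mul, uv_mul' a i, ← uv_mul, map_mul, huv]
      exact (hw.map ψ).mul_right_dvd.2 dvd_rfl
    · refine (IsLocalRing.mem_maximalIdeal _).1 ((mem_maximalIdeal_iff m x' _).2 ?_)
      rw [hme]; exact h0 i
  have hξx' : ξ ⤳ pullback.fst φ gU x' := hx'1.symm ▸ hξs
  obtain ⟨η, hηs, hη⟩ := Flat.generalizingMap (pullback.fst φ gU) hξx'
  obtain ⟨Q, rfl⟩ := EquidimLib.exists_stalkPt hηs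
  have hQϖ : ev p' x' ϖ ∈ Q.asIdeal := by
    have h1 : ϖ ∈ (p' (EquidimLib.stalkPt x' Q)).asIdeal := by rw [Scheme.Hom.comp_apply, hη]; exact hξϖ
    rwa [asIdeal_stalkPt] at h1
  let u₂ := pullback.snd φ gU (EquidimLib.stalkPt x' Q)
  have hu₂s : u₂ ⤳ u₀ := hx'2 ▸ hηs.map (pullback.snd φ gU).continuous
  have hu₂m : ∀ i, uv a i ∈ (e u₂).asIdeal := fun i => by
    show uv a i ∈ (m (EquidimLib.stalkPt x' Q)).asIdeal
    rw [asIdeal_stalkPt]
    exact Ideal.mem_comap.2 (Ideal.mem_of_dvd _ (hdvd i) hQϖ)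
  have hu₂e : e u₂ = e u₀ := by
    refine PrimeSpectrum.ext (le_antisymm ((PrimeSpectrum.le_iff_specializes _ _).2 (hu₂s.map e.continuous))
      (le_of_base_le a hu₂m h0 fun c hc => ?_))
    have h1 : algebraMap A L c ∈ maximalIdeal L := (IsLocalization.AtPrime.to_map_mem_maximal_iff L v c).2 hc
    rw [hvmax, Ideal.mem_span_singleton] at h1
    obtain ⟨l, hl⟩ := h1
    have h2 : ρ c ∈ Q.asIdeal := by
      rw [show ρ c = ψ (algebraMap A L c) from (IsLocalization.lift_eq _ c).symm, hl, map_mul, hψ]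
      exact Ideal.mul_mem_right _ _ hQϖ
    show algebraMap A _ c ∈ (m (EquidimLib.stalkPt x' Q)).asIdeal
    rw [asIdeal_stalkPt]
    exact h2
  haveI : LocallyQuasiFinite e := AlgSpRegLib.lqf_of_etale e
  have hu₂ : u₂ = u₀ := by
    have hd := e.isDiscrete_preimage_singleton (e u₀)
    haveI := hd.to_subtype
    have h1 : (⟨u₂, hu₂e⟩ : e ⁻¹' {e u₀}) ⤳ ⟨u₀, rfl⟩ := (subtype_specializes_iff _ _).2 hu₂s
    exact congrArg Subtype.val h1.eq
  have hξy : φ ξ = y := by
    rw [← hη, ← Scheme.Hom.comp_apply, pullback.condition, Scheme.Hom.comp_apply]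
    exact (congrArg gU hu₂).trans hu₀
  exact hξx (Set.mem_singleton_iff.1 ((hcl ξ hξy).closure_eq ▸ specializes_iff_mem_closure.1 hξs)).symm

end StrictSSLib

end
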