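import Groth.Agent.StrictSSLib.Node
import Mathlib.RingTheory.QuasiFinite.Basic
import Mathlib.RingTheory.Unramified.LocalStructure
import Mathlib.RingTheory.DiscreteValuationRing.TFAE
import Mathlib.RingTheory.Etale.Basic

/-!
# Etale neighbourhoods of a discrete valuation ring, and changes of the node model
-/

set_option autoImplicit false
set_option linter.style.haveILetI false
set_option backward.isDefEq.respectTransparency false
set_option backward.isDefEq.respectTransparency.types false

universe u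

open IsLocalRing StrictSS

noncomputable section

namespace StrictSSLib

theorem isDVR_of_regular_parameter (B : Type u) [CommRing B] [IsLocalRing B] [IsNoetherianRing B] (π : B)
    (hπ : maximalIdeal B = Ideal.span {π}) (hreg : IsSMulRegular B π) :
    ∃ _ : IsDomain B, IsDiscreteValuationRing B ∧ Irreducible π := by
  have hnu : ¬ IsUnit π := fun h => (maximalIdeal.isMaximal B).ne_top (by rw [hπ]; exact Ideal.span_singleton_eq_top.2 h)
  have hpow : ∀ n : ℕ, ∀ z : B, π ^ n * z = 0 → z = 0 := fun n z h => (hreg.pow n) (by simpa using h)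
  have key : ∀ x : B, x ≠ 0 → ∃ (n : ℕ) (w : B), IsUnit w ∧ x = π ^ n * w := by
    intro x hx
    by_contra hcon
    apply hx
    have : ∀ n : ℕ, x ∈ maximalIdeal B ^ n := fun n => by
      induction n with
      | zero => simp
      | succ n ih =>
        rw [hπ, Ideal.span_singleton_pow] at ih ⊢
        obtain ⟨w, hw⟩ := Ideal.mem_span_singleton'.1 ih
        have hw' : w ∈ maximalIdeal B := by
          by_contra hu
          exact hcon ⟨n, w, not_not.1 hu, by rw [← hw, mul_comm]⟩
        rw [hπ] at hw'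
        obtain ⟨c, rfl⟩ := Ideal.mem_span_singleton'.1 hw'
        exact Ideal.mem_span_singleton'.2 ⟨c, by rw [← hw]; ring⟩
    have := (Submodule.mem_iInf _).2 this
    rwa [Ideal.iInf_pow_eq_bot_of_isLocalRing _ (maximalIdeal.isMaximal B).ne_top] at this
  haveI : NoZeroDivisors B := ⟨fun {a b} hab => by
    by_contra h
    push_neg at h
    obtain ⟨n, w, hw, rfl⟩ := key a h.1
    obtain ⟨m, w', hw', rfl⟩ := key b h.2
    have h0 : π ^ (n + m) * (w * w') = 0 := by rw [← hab]; ring
    exact (hw.mul hw').ne_zero (hpow _ _ h0)⟩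
  haveI : IsDomain B := NoZeroDivisors.to_isDomain B
  have hne : π ≠ 0 := fun h => one_ne_zero (α := B) (hreg (by simp [h]))
  have hnf : ¬ IsField B := fun h => hnu (by
    obtain ⟨b, hb⟩ := h.mul_inv_cancel hne
    exact isUnit_iff_exists_inv.2 ⟨b, hb⟩)
  haveI hdvr : IsDiscreteValuationRing B :=
    ((IsDiscreteValuationRing.TFAE B hnf).out 4 0 : (maximalIdeal B).IsPrincipal ↔ IsDiscreteValuationRing B).1 ⟨π, hπ⟩
  exact ⟨inferInstance, hdvr, (IsDiscreteValuationRing.irreducible_iff_uniformizer π).2 hπ⟩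

variable {R : Type u} [CommRing R] [IsDomain R] [IsDiscreteValuationRing R]

/-- A point over the closed point of an étale algebra over a discrete valuation ring has a basic neighbourhood
which is a discrete valuation ring. -/
theorem exists_dvr_nbhd {A : Type u} [CommRing A] [Algebra R A] [Algebra.Etale R A]
    (v : Ideal A) [v.IsPrime] (hv : v.comap (algebraMap R A) = maximalIdeal R) (ϖ : R) (hϖ : Irreducible ϖ) :
    ∃ f : A, f ∉ v ∧ ∃ _ : IsDomain (Localization.Away f), IsDiscreteValuationRing (Localization.Away f) ∧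
      Irreducible (algebraMap R (Localization.Away f) ϖ) := by
  classical
  haveI : Algebra.QuasiFinite R A := inferInstance
  have hR : (Set.univ : Set (PrimeSpectrum R)).Finite := by
    refine Set.Finite.subset (Set.toFinite {⟨⊥, Ideal.isPrime_bot⟩, closedPoint R}) fun p _ => ?_
    rcases eq_or_ne p.asIdeal ⊥ with h | h
    · exact Or.inl (PrimeSpectrum.ext h)
    · exact Or.inr (PrimeSpectrum.ext (eq_maximalIdeal (p.isPrime.isMaximal h)))
  have hfin : (Set.univ : Set (PrimeSpectrum A)).Finite := by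
    have h := Algebra.QuasiFinite.finite_comap_preimage (R := R) (S := A) hR
    simpa using h
  haveI : Finite (PrimeSpectrum A) := Set.finite_univ_iff.1 hfin
  let _ : Fintype (PrimeSpectrum A) := Fintype.ofFinite _
  have hch : ∀ z : PrimeSpectrum A, ∃ x, x ∉ v ∧ (¬ z.asIdeal ≤ v → x ∈ z.asIdeal) := fun z => by
    by_cases hz : z.asIdeal ≤ v
    · exact ⟨1, fun h => ‹v.IsPrime›.ne_top ((Ideal.eq_top_iff_one v).2 h), fun h => absurd hz h⟩
    · obtain ⟨x, hx, hxv⟩ := SetLike.not_le_iff_exists.1 hz
      exact ⟨x, hxv, fun _ => hx⟩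
  choose g hg hgz using hch
  let f := ∏ z, g z
  have hf : f ∉ v := fun h => by
    obtain ⟨z, -, hz⟩ := Ideal.IsPrime.prod_mem_iff.1 h
    exact hg z hz
  refine ⟨f, hf, ?_⟩
  let B := Localization.Away f
  have hle : ∀ P : Ideal B, P.IsPrime → P.comap (algebraMap A B) ≤ v := by
    intro P hP
    by_contra hn
    have h1 : f ∈ P.comap (algebraMap A B) :=
      Ideal.mem_of_dvd _ (Finset.dvd_prod_of_mem g (Finset.mem_univ (PrimeSpectrum.comap (algebraMap A B) ⟨P, hP⟩)))
        (hgz (PrimeSpectrum.comap (algebraMap A B) ⟨P, hP⟩) hn)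
    exact hP.ne_top (Ideal.eq_top_of_isUnit_mem _ h1 (IsLocalization.Away.algebraMap_isUnit f))
  have hu : ∀ x : A, x ∉ v → IsUnit (algebraMap A B x) := fun x hx => by
    by_contra h
    obtain ⟨M, hM, hxM⟩ := exists_max_ideal_of_mem_nonunits h
    exact hx (hle M hM.isPrime hxM)
  obtain ⟨w, hw, hwv⟩ : ∃ P : Ideal B, P.IsPrime ∧ P.comap (algebraMap A B) = v := by
    refine ⟨v.map (algebraMap A B), IsLocalization.isPrime_of_isPrime_disjoint (Submonoid.powers f) _ v ‹_› ?_,
      IsLocalization.comap_map_of_isPrime_disjoint (Submonoid.powers f) _ ‹_› ?_⟩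
    all_goals exact (Ideal.disjoint_powers_iff_notMem_of_isPrime f).2 hf
  have honly : ∀ b : B, b ∉ w → IsUnit b := by
    intro b hb
    obtain ⟨x, s, rfl⟩ := IsLocalization.exists_mk'_eq (Submonoid.powers f) b
    have hx : x ∉ v := fun hx => hb ((IsLocalization.mk'_mem_iff).2 (show x ∈ w.comap (algebraMap A B) from hwv ▸ hx))
    exact isUnit_of_mul_isUnit_left (y := algebraMap A B s) (by rw [IsLocalization.mk'_spec]; exact hu x hx)
  haveI : Nontrivial B := ⟨⟨0, 1, fun h => hw.ne_top ((Ideal.eq_top_iff_one w).2 (h ▸ zero_mem w))⟩⟩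
  haveI : IsLocalRing B := IsLocalRing.of_nonunits_add fun a b ha hb => by
    have ha' : a ∈ w := not_not.1 fun h => ha (honly a h)
    have hb' : b ∈ w := not_not.1 fun h => hb (honly b h)
    exact fun h => hw.ne_top (Ideal.eq_top_of_isUnit_mem _ (add_mem ha' hb') h)
  haveI : Algebra.Etale A B := inferInstance
  haveI : Algebra.Etale R B := Algebra.Etale.comp R A B
  haveI : IsNoetherianRing B := Algebra.FiniteType.isNoetherianRing R B
  have hwm : maximalIdeal B = w := le_antisymm
    (fun b hb => not_not.1 fun h => hb (honly b h)) (le_maximalIdeal hw.ne_top)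
  haveI : IsLocalHom (algebraMap R B) := ⟨fun r hr => by
    by_contra hn
    have h1 : algebraMap R A r ∈ v := (hv ▸ (mem_maximalIdeal r).2 hn : r ∈ v.comap (algebraMap R A))
    rw [IsScalarTower.algebraMap_apply R A B] at hr
    exact hw.ne_top (Ideal.eq_top_of_isUnit_mem _ (show algebraMap A B (algebraMap R A r) ∈ w from
      (hwv ▸ h1 : algebraMap R A r ∈ w.comap (algebraMap A B))) hr)⟩
  have hm : maximalIdeal B = Ideal.span {algebraMap R B ϖ} := by
    rw [← Algebra.FormallyUnramified.map_maximalIdeal (R := R) (S := B), hϖ.maximalIdeal_eq, Ideal.map_span,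
      Set.image_singleton]
  have hreg : IsSMulRegular B (algebraMap R B ϖ) := by
    haveI : Module.Flat R B := inferInstance
    have h := Module.Flat.isSMulRegular_of_nonZeroDivisors (M := B) (mem_nonZeroDivisors_of_ne_zero hϖ.ne_zero)
    intro x y hxy
    exact h (by simpa [Algebra.smul_def] using hxy)
  exact isDVR_of_regular_parameter B _ hm hreg

variable {B : Type u} [CommRing B]

/-- Rescaling a coordinate. -/
theorem exists_scale (a b : B) (w : B) (hw : IsUnit w) (hab : a = w * b) :
    ∃ e : NodeAlg B a ≃ₐ[B] NodeAlg B b, True := by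
  obtain ⟨w', hw'⟩ := hw.exists_right_inv
  let F : NodeAlg B a →ₐ[B] NodeAlg B b := lift a ![algebraMap B _ w * uv b 0, uv b 1] (by
    simp only [Matrix.cons_val_zero, Matrix.cons_val_one, Matrix.cons_val_fin_one]
    rw [mul_assoc, uv_mul, ← map_mul, hab])
  let G : NodeAlg B b →ₐ[B] NodeAlg B a := lift b ![algebraMap B _ w' * uv a 0, uv a 1] (by
    simp only [Matrix.cons_val_zero, Matrix.cons_val_one, Matrix.cons_val_fin_one]
    rw [mul_assoc, uv_mul, ← map_mul, hab, ← mul_assoc, mul_comm w' w, hw', one_mul])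
  refine ⟨AlgEquiv.ofAlgHom F G (algHom_ext' b fun i => ?_) (algHom_ext' a fun i => ?_), trivial⟩
  · fin_cases i
    · show F (G (uv b 0)) = uv b 0
      simp [F, G, map_mul, ← mul_assoc]
      rw [← map_mul, mul_comm w' w, hw', map_one, one_mul]
    · show F (G (uv b 1)) = uv b 1
      simp [F, G]
  · fin_cases i
    · show G (F (uv a 0)) = uv a 0
      simp [F, G, map_mul, ← mul_assoc]
      rw [← map_mul, hw', map_one, one_mul]
    · show G (F (uv a 1)) = uv a 1
      simp [F, G]

/-- A shifted punctured line is the node model of thickness one. -/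
theorem exists_gm (c : B) :
    ∃ e : NodeAlg B 1 ≃ₐ[B] Localization.Away (MvPolynomial.X 0 + MvPolynomial.C c : MvPolynomial (Fin 1) B), True := by
  let s : MvPolynomial (Fin 1) B := MvPolynomial.X 0 + MvPolynomial.C c
  let L := Localization.Away s
  let S : L := algebraMap _ L s
  obtain ⟨w, hw⟩ := (IsLocalization.Away.algebraMap_isUnit (S := L) s).exists_right_inv
  let F : NodeAlg B 1 →ₐ[B] L := lift 1 ![S, w] (by simp [S, hw])
  let G₀ : MvPolynomial (Fin 1) B →ₐ[B] NodeAlg B 1 :=
    MvPolynomial.aeval fun _ => uv 1 0 - algebraMap B _ c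
  have hG₀s : G₀ s = uv 1 0 := by simp [G₀, s]
  have hu : IsUnit (G₀ s) := by
    rw [hG₀s]
    exact isUnit_iff_exists_inv.2 ⟨uv 1 1, by rw [uv_mul, map_one]⟩
  let G : L →ₐ[B] NodeAlg B 1 := IsLocalization.liftAlgHom (M := Submonoid.powers s) (S := L) (f := G₀) (by
    rintro ⟨_, n, rfl⟩
    rw [map_pow]
    exact hu.pow n)
  have hG : ∀ z, G (algebraMap _ L z) = G₀ z := fun z => IsLocalization.lift_eq _ z
  have hGw : G w = uv 1 1 := by
    have h1 := congrArg G hw
    simp only [map_mul, hG, hG₀s] at h1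
    have h2 : uv (1 : B) 0 * uv 1 1 = 1 := (uv_mul (1 : B)).trans (map_one _)
    calc G w = uv 1 1 * (uv 1 0 * G w) := by
          linear_combination (-(G w)) * h2
      _ = uv 1 1 := by rw [h1]; simp
  refine ⟨AlgEquiv.ofAlgHom F G ?_ (algHom_ext' 1 fun i => ?_), trivial⟩
  · refine IsLocalization.algHom_ext (Submonoid.powers s) (MvPolynomial.algHom_ext fun i => ?_)
    fin_cases i
    show F (G (algebraMap _ L (MvPolynomial.X 0))) = algebraMap _ L (MvPolynomial.X 0)
    rw [hG, show G₀ (MvPolynomial.X 0) = uv 1 0 - algebraMap B _ c by simp [G₀], map_sub, AlgHom.commutes, lift_uv]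
    simp only [Matrix.cons_val_zero, S, s, map_add]
    rw [IsScalarTower.algebraMap_apply B (MvPolynomial (Fin 1) B) L, MvPolynomial.algebraMap_eq, add_sub_cancel_right]
  · fin_cases i
    · show G (F (uv 1 0)) = uv 1 0
      simp [F, S, hG, hG₀s]
    · show G (F (uv 1 1)) = uv 1 1
      simp [F, hGw]

end StrictSSLib

end
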