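import Groth.Agent.StrictSSLib.NodeBranch
import Groth.Agent.NodalLib.Crit
import Groth.Agent.FFDescLib.EtaleGraph
import Groth.Agent.ClopenFFLib.Henselian
import Groth.Agent.AffContLib.Semi
import Mathlib.RingTheory.PowerSeries.Inverse

/-!
# Split nodes: the criterion descends along maps with trivial residue extension
-/

set_option autoImplicit false
set_option linter.style.haveILetI false
set_option backward.isDefEq.respectTransparency false
set_option backward.isDefEq.respectTransparency.types false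
set_option maxHeartbeats 1000000

universe u

open CategoryTheory CategoryTheory.Limits AlgebraicGeometry IsLocalRing StrictSS

noncomputable section

namespace StrictSSLib

/-- The criterion is invariant under isomorphism. -/
theorem nodeCrit_of_ringEquiv {B B' : Type u} [CommRing B] [IsLocalRing B] [CommRing B'] [IsLocalRing B']
    (e : B ≃+* B') (h : NodalLib.NodeCrit B) : NodalLib.NodeCrit B' := by
  letI := e.toRingHom.toAlgebra
  haveI : Module.FaithfullyFlat B B' := RingHom.FaithfullyFlat.of_bijective e.bijective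
  exact h.map (map_maximalIdeal_of_surjective e.toRingHom e.surjective)

/-- The criterion descends along faithfully flat unramified maps with trivial residue extension. -/
theorem nodeCrit_descend {B B' : Type u} [CommRing B] [IsLocalRing B] [CommRing B'] [IsLocalRing B']
    [IsNoetherianRing B'] [Algebra B B'] [Module.FaithfullyFlat B B']
    (hm : (maximalIdeal B).map (algebraMap B B') = maximalIdeal B')
    (hres : ∀ z : B', ∃ c : B, z - algebraMap B B' c ∈ maximalIdeal B') (h : NodalLib.NodeCrit B') :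
    NodalLib.NodeCrit B := by
  obtain ⟨a', b', hab, hp, hn⟩ := h
  let ι := algebraMap B B'
  let M := maximalIdeal B'
  have hc : ∀ (n : ℕ) (x : B), ι x ∈ M ^ n ↔ x ∈ maximalIdeal B ^ n := fun n x => by
    rw [← Ideal.comap_map_eq_self_of_faithfullyFlat (B := B') (maximalIdeal B ^ n), Ideal.mem_comap, Ideal.map_pow, hm]
  have hM : ∀ z ∈ M, ∃ x ∈ maximalIdeal B, z - ι x ∈ M ^ 2 := by
    intro z hz
    rw [show M = (maximalIdeal B).map ι from hm.symm] at hz
    have : (maximalIdeal B).map ι ≤
        (maximalIdeal B).map ι := le_rfl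
    refine Submodule.span_induction (p := fun z _ => ∃ x ∈ maximalIdeal B, z - ι x ∈ M ^ 2) ?_ ?_ ?_ ?_ hz
    · rintro _ ⟨x, hx, rfl⟩; exact ⟨x, hx, by simp⟩
    · exact ⟨0, zero_mem _, by simp⟩
    · rintro p q - - ⟨x, hx, hx'⟩ ⟨y, hy, hy'⟩
      exact ⟨x + y, add_mem hx hy, by rw [map_add, add_sub_add_comm]; exact add_mem hx' hy'⟩
    · rintro r p - ⟨x, hx, hx'⟩
      obtain ⟨c, hc⟩ := hres r
      refine ⟨c * x, Ideal.mul_mem_left _ _ hx, ?_⟩
      rw [smul_eq_mul, map_mul, show r * p - ι c * ι x = r * (p - ι x) + (r - ι c) * ι x by ring]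
      refine add_mem (Ideal.mul_mem_left _ _ hx') ?_
      rw [pow_two]
      exact Ideal.mul_mem_mul hc (hm.le (Ideal.mem_map_of_mem _ hx))
  have ha' : a' ∈ M := hab.ge (Ideal.subset_span (by simp))
  have hb' : b' ∈ M := hab.ge (Ideal.subset_span (by simp))
  obtain ⟨a, ha, haa⟩ := hM a' ha'
  obtain ⟨b, hb, hbb⟩ := hM b' hb'
  have hab' : M = Ideal.span {ι a, ι b} := by
    refine le_antisymm ?_ (Ideal.span_le.2 (Set.pair_subset (hm.le (Ideal.mem_map_of_mem _ ha))
      (hm.le (Ideal.mem_map_of_mem _ hb))))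
    refine Submodule.le_of_le_smul_of_le_jacobson_bot (IsNoetherian.noetherian _)
      (maximalIdeal_le_jacobson _) ?_
    conv_lhs => rw [show M = Ideal.span {a', b'} from hab]
    rw [Ideal.span_le]
    refine Set.pair_subset ?_ ?_
    · have := add_mem (Submodule.mem_sup_left (Ideal.subset_span (Set.mem_insert _ _)) :
          ι a ∈ Ideal.span {ι a, ι b} ⊔ M • M) (Submodule.mem_sup_right (by rw [smul_eq_mul, ← pow_two]; exact haa))
      simpa using this
    · have := add_mem (Submodule.mem_sup_left (Ideal.subset_span (Set.mem_insert_of_mem _ rfl)) :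
          ι b ∈ Ideal.span {ι a, ι b} ⊔ M • M) (Submodule.mem_sup_right (by rw [smul_eq_mul, ← pow_two]; exact hbb))
      simpa using this
  refine ⟨a, b, ?_, ?_, fun n => ⟨fun h => (hn n).1 ?_, fun h => (hn n).2 ?_⟩⟩
  · rw [← Ideal.comap_map_eq_self_of_faithfullyFlat (B := B') (Ideal.span {a, b}), Ideal.map_span, Set.image_pair,
      ← hab', ← show (maximalIdeal B).map ι = M from hm, Ideal.comap_map_eq_self_of_faithfullyFlat]
  · rw [← hc, map_mul, show ι a * ι b = a' * b' - ((a' - ι a) * b' + ι a * (b' - ι b)) by ring, show (3 : ℕ) = 2 + 1 by rfl]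
    refine sub_mem hp (add_mem ?_ ?_)
    · rw [pow_succ]; exact Ideal.mul_mem_mul haa hb'
    · rw [pow_succ']; exact Ideal.mul_mem_mul (hm.le (Ideal.mem_map_of_mem _ ha)) hbb
  · exact pow_congr haa ha' ((map_pow ι a n) ▸ (hc _ _).2 h)
  · exact pow_congr hbb hb' ((map_pow ι b n) ▸ (hc _ _).2 h)
where
  pow_congr {B' : Type u} [CommRing B'] [IsLocalRing B'] {x' x : B'} {n : ℕ}
      (hxx : x' - x ∈ maximalIdeal B' ^ 2) (hx' : x' ∈ maximalIdeal B')
      (h : x ^ n ∈ maximalIdeal B' ^ (n + 1)) : x' ^ n ∈ maximalIdeal B' ^ (n + 1) := by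
    have hx : x ∈ maximalIdeal B' := by
      have := sub_mem hx' (Ideal.pow_le_self two_ne_zero hxx)
      simpa using this
    rw [show x' ^ n = x ^ n + (x' ^ n - x ^ n) by ring]
    refine add_mem h ?_
    clear h
    induction n with
    | zero => simp
    | succ m ih =>
      rw [show x' ^ (m + 1) - x ^ (m + 1) = (x' ^ m - x ^ m) * x' + x ^ m * (x' - x) by ring]
      refine add_mem ?_ ?_
      · rw [pow_succ]; exact Ideal.mul_mem_mul ih hx'
      · rw [show m + 1 + 1 = m + 2 by ring, pow_add]
        exact Ideal.mul_mem_mul (Ideal.pow_mem_pow hx m) hxx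

/-- The maximal ideal of a localisation generated by two elements. -/
theorem max_eq_pair {N : Type u} [CommRing N] (w : Ideal N) [w.IsPrime] (L : Type u) [CommRing L] [IsLocalRing L]
    [Algebra N L] [IsLocalization.AtPrime L w] (p q : N) (hp : p ∈ w) (hq : q ∈ w)
    (hz : ∀ z ∈ w, ∃ r : N, z - r ∈ Ideal.span {p, q} ∧ algebraMap N L r = 0) (hpq : algebraMap N L (p * q) = 0) :
    maximalIdeal L = Ideal.span {algebraMap N L p, algebraMap N L q} ∧
      algebraMap N L p * algebraMap N L q ∈ maximalIdeal L ^ 3 := by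
  refine ⟨?_, by rw [← map_mul, hpq]; exact zero_mem _⟩
  rw [← IsLocalization.AtPrime.map_eq_maximalIdeal w L]
  refine le_antisymm (Ideal.map_le_iff_le_comap.2 fun z hzw => ?_) (Ideal.span_le.2 (Set.pair_subset
    (Ideal.mem_map_of_mem _ hp) (Ideal.mem_map_of_mem _ hq)))
  obtain ⟨r, hr, hr0⟩ := hz z hzw
  have h2 := Ideal.mem_map_of_mem (algebraMap N L) hr
  rw [map_sub, hr0, sub_zero, Ideal.map_span, Set.image_pair] at h2
  exact h2

/-- A branch through a split point sees every power of its coordinate. -/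
theorem branch_not_mem {A : Type u} [CommRing A] (a : A) {K : Type u} [Field K] (g : A →+* K) (hga : g a = 0)
    (w : Ideal (NodeAlg A a)) [w.IsPrime] (hw : ∀ i, uv a i ∈ w) (hwc : w.comap (algebraMap A _) = RingHom.ker g)
    (hmax : maximalIdeal (Localization.AtPrime w) = Ideal.span {algebraMap _ (Localization.AtPrime w) (uv a 0),
      algebraMap _ (Localization.AtPrime w) (uv a 1)}) (i : Fin 2) (n : ℕ) :
    (algebraMap _ (Localization.AtPrime w) (uv a i)) ^ n ∉ maximalIdeal (Localization.AtPrime w) ^ (n + 1) := by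
  intro hcon
  letI : Algebra A K := g.toAlgebra
  let L := Localization.AtPrime w
  let al : NodeAlg A a →+* L := algebraMap _ L
  let x : Fin 2 → PowerSeries K := fun j => if j = i then PowerSeries.X else 0
  have hga' : algebraMap A (PowerSeries K) a = 0 := by
    rw [PowerSeries.algebraMap_apply, show algebraMap A K a = 0 from hga, map_zero]
  have hx : x 0 * x 1 = algebraMap A (PowerSeries K) a := by
    rw [hga']; fin_cases i <;> simp [x]
  let φ := lift a x hx
  have hle : Ideal.span {uv a 0, uv a 1} ≤ RingHom.ker ((PowerSeries.constantCoeff).comp φ.toRingHom) := by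
    refine Ideal.span_le.2 (Set.pair_subset ?_ ?_) <;>
      simp [φ, x, apply_ite PowerSeries.constantCoeff]
  have hu : ∀ z : w.primeCompl, IsUnit (φ z) := fun z => by
    rw [PowerSeries.isUnit_iff_constantCoeff, isUnit_iff_ne_zero]
    intro h
    obtain ⟨r, hr⟩ := decomp a (z : NodeAlg A a)
    have h0 : PowerSeries.constantCoeff (φ ((z : NodeAlg A a) - algebraMap A _ r)) = 0 := hle hr
    rw [map_sub, map_sub, h, zero_sub, neg_eq_zero, AlgHom.commutes, PowerSeries.algebraMap_apply,
      PowerSeries.constantCoeff_C] at h0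
    have hrw : algebraMap A (NodeAlg A a) r ∈ w := (hwc.ge h0 : r ∈ w.comap (algebraMap A _))
    exact z.2 (by simpa using add_mem (Ideal.span_le.2 (Set.pair_subset (hw 0) (hw 1)) hr) hrw)
  let ψ : L →+* PowerSeries K := IsLocalization.lift (M := w.primeCompl) (g := φ.toRingHom) hu
  have hψ : ∀ j, ψ (al (uv a j)) = x j := fun j => (IsLocalization.lift_eq _ _).trans (lift_uv a x hx j)
  have hle : (maximalIdeal L).map ψ ≤ Ideal.span {PowerSeries.X} := by
    rw [hmax, Ideal.map_span, Set.image_pair, Ideal.span_le]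
    refine Set.pair_subset ?_ ?_ <;> rw [hψ] <;>
      simp only [x] <;> split_ifs <;> simp [Ideal.mem_span_singleton_self]
  have h2 := (Ideal.pow_right_mono hle (n + 1)) (Ideal.map_pow ψ _ _ ▸ Ideal.mem_map_of_mem ψ hcon)
  rw [map_pow, hψ, Ideal.span_singleton_pow, Ideal.mem_span_singleton] at h2
  simp only [x, if_true] at h2
  rw [PowerSeries.X_pow_dvd_iff] at h2
  simpa [PowerSeries.coeff_X_pow] using h2 n (Nat.lt_succ_self n)

variable {R : Type u} [CommRing R] [IsDomain R]

/-- A section of an étale algebra is the generic point of a clopen piece. -/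
theorem exists_kill {A : CommRingCat.{u}} (α : CommRingCat.of R ⟶ A) [Etale (Spec.map α)]
    (s : A →+* R) (hs : s.comp α.hom = RingHom.id R) (r : A) (hr : s r = 0) : ∃ t : A, s t ≠ 0 ∧ t * r = 0 := by
  let η : Spec (CommRingCat.of R) := ⟨⊥, Ideal.isPrime_bot⟩
  let σ : Spec (CommRingCat.of R) ⟶ Spec A := Spec.map (CommRingCat.ofHom s)
  have hsec : σ ≫ Spec.map α = 𝟙 _ := by
    rw [← Spec.map_comp, ← Spec.map_id]
    exact congrArg Spec.map (CommRingCat.hom_ext hs)
  haveI : IsOpenImmersion σ := FFDescLib.isOpenImmersion_of_section (Spec.map α) σ hsec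
  have h1 : ev (σ ≫ 𝟙 (Spec A)) η r = 0 := by
    rw [Category.comp_id, ← Category.id_comp σ, ev_base, RingHom.comp_apply]
    show ev (𝟙 _) η (s r) = 0
    rw [hr, map_zero]
  rw [ev_comp, RingHom.comp_apply] at h1
  have h2 : ev (𝟙 (Spec A)) (σ η) r = 0 :=
    ((ConcreteCategory.isIso_iff_bijective (σ.stalkMap η)).1 inferInstance).1 (h1.trans (map_zero _).symm)
  obtain ⟨t, ht, htr⟩ := exists_mul_eq_zero (σ η) h2
  exact ⟨t, fun h => ht (show s t ∈ (⊥ : Ideal R) from h), htr⟩

/-- At the generic point of a section of the vanishing locus of `u, v` the node model is a split node. -/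
theorem nodeCrit_origin {A : Type u} [CommRing A] (a : A) (s : A →+* R)
    (hkill : ∀ r : A, s r = 0 → ∃ t : A, s t ≠ 0 ∧ t * r = 0) (hsa : s a = 0)
    (w : Ideal (NodeAlg A a)) [w.IsPrime] (hw : ∀ i, uv a i ∈ w) (hwc : w.comap (algebraMap A _) = RingHom.ker s) :
    NodalLib.NodeCrit (Localization.AtPrime w) := by
  let L := Localization.AtPrime w
  let al : NodeAlg A a →+* L := algebraMap _ L
  have hker : ∀ r : A, s r = 0 → al (algebraMap A _ r) = 0 := by
    intro r hr
    obtain ⟨t, ht, htr⟩ := hkill r hr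
    have htw : algebraMap A (NodeAlg A a) t ∉ w := fun h => ht (hwc.le h : t ∈ RingHom.ker s)
    have hu : IsUnit (al (algebraMap A _ t)) :=
      IsLocalization.map_units L (⟨_, htw⟩ : w.primeCompl)
    exact hu.mul_right_eq_zero.1 (by rw [← map_mul, ← map_mul, htr, map_zero, map_zero])
  have hz : ∀ z ∈ w, ∃ r : NodeAlg A a, z - r ∈ Ideal.span {uv a 0, uv a 1} ∧ al r = 0 := fun z hz => by
    obtain ⟨r, hr⟩ := decomp a z
    refine ⟨algebraMap A _ r, hr, hker r (hwc.le ?_)⟩
    show algebraMap A (NodeAlg A a) r ∈ w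
    have h1 : z - algebraMap A _ r ∈ w := (Ideal.span_le.2 (Set.pair_subset (hw 0) (hw 1))) hr
    simpa only [sub_sub_cancel] using w.sub_mem hz h1
  have hab : al (uv a 0 * uv a 1) = 0 := (congrArg al (uv_mul a)).trans (hker a hsa)
  obtain ⟨hmax, h3⟩ := max_eq_pair w L (uv a 0) (uv a 1) (hw 0) (hw 1) hz hab
  refine ⟨al (uv a 0), al (uv a 1), hmax, h3, fun n => ?_⟩
  exact ⟨branch_not_mem a ((algebraMap R (FractionRing R)).comp s) (by rw [RingHom.comp_apply, hsa, map_zero]) w hw
      (by rw [hwc, ← RingHom.comap_ker, (RingHom.injective_iff_ker_eq_bot _).1 (IsFractionRing.injective R _),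
        ← RingHom.ker_eq_comap_bot]) hmax 0 n,
    branch_not_mem a ((algebraMap R (FractionRing R)).comp s) (by rw [RingHom.comp_apply, hsa, map_zero]) w hw
      (by rw [hwc, ← RingHom.comap_ker, (RingHom.injective_iff_ker_eq_bot _).1 (IsFractionRing.injective R _),
        ← RingHom.ker_eq_comap_bot]) hmax 1 n⟩

end StrictSSLib

end
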