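import Groth.Agent.StrictSSLib.Node
import Groth.Agent.NodalLib.NodalPt
import Groth.Agent.NodalLib.SingFamily

/-!
# Strictly semistable curves are semistable
-/

set_option autoImplicit false
set_option linter.style.haveILetI false
set_option linter.unusedSectionVars false
set_option maxHeartbeats 1000000
set_option synthInstance.maxHeartbeats 100000
set_option backward.isDefEq.respectTransparency false
set_option backward.isDefEq.respectTransparency.types false

universe u

open CategoryTheory CategoryTheory.Limits AlgebraicGeometry IsLocalRing StrictSS NodalLib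
open scoped TensorProduct

noncomputable section

namespace StrictSSLib

theorem isPullback_mono {X T S : Scheme.{u}} (m : X ⟶ T) (j : T ⟶ S) [Mono j] : IsPullback (𝟙 X) m (m ≫ j) j := by
  simpa using (IsPullback.of_id_fst (f := m)).paste_vert (IsKernelPair.id_of_mono j)

/-- The fibre through a point is, near that point, smooth or a node. -/
abbrev SON {X S : Scheme.{u}} (f : X ⟶ S) (p : X) : Prop :=
  @SmoothOrNode (S.residueField (f p)) _ (f.fiber (f p)) ⟨f.fiberToSpecResidueField (f p)⟩ (f.asFiber p)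

theorem son_of_smooth {X S : Scheme.{u}} (f : X ⟶ S) [Smooth f] (p : X) : SON f p := by
  haveI : Smooth (f.fiberToSpecResidueField (f p)) :=
    MorphismProperty.pullback_snd (P := @Smooth) _ _ ‹Smooth f›
  exact Or.inl ⟨⊤, trivial, inferInstanceAs (Smooth ((⊤ : (f.fiber (f p)).Opens).ι ≫ f.fiberToSpecResidueField (f p)))⟩

theorem son_baseChange {P X S S' : Scheme.{u}} {fst : P ⟶ X} {snd : P ⟶ S'} {f : X ⟶ S} {g : S' ⟶ S}
    [LocallyOfFiniteType f] (h : IsPullback fst snd f g) (p' : P) : SON snd p' ↔ SON f (fst p') := by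
  haveI := locallyOfFiniteType_fiberTo f (g (snd p'))
  refine Iff.trans (smoothOrNode_isPullback (f.fiberToSpecResidueField (g (snd p'))) (g.residueFieldMap (snd p'))
    (isPullback_fiberToSpecResidueField_of_isPullback h (snd p')) (snd.asFiber p')).symm ?_
  refine smoothOrNode_fiber_congr f _ _ _ ?_
  exact (congrArg (fun φ : snd.fiber (snd p') ⟶ X => φ (snd.asFiber p')) (pullback.lift_fst _ _ _)).trans
    (congrArg fst (snd.fiberι_asFiber p'))

/-- Over a field the fibre is the whole scheme. -/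
theorem son_field {K : Type u} [Field K] {X : Scheme.{u}} (p : X ⟶ Spec (CommRingCat.of K)) [LocallyOfFiniteType p]
    (z : X) : SON p z ↔ @SmoothOrNode K _ X ⟨p⟩ z := by
  obtain ⟨φ, hφ⟩ := Spec.map_surjective ((Spec (CommRingCat.of K)).fromSpecResidueField (p z))
  have h : IsPullback (p.fiberι (p z)) (p.fiberToSpecResidueField (p z)) p (Spec.map φ) :=
    hφ.symm ▸ IsPullback.of_hasPullback p ((Spec (CommRingCat.of K)).fromSpecResidueField (p z))
  have h2 := smoothOrNode_isPullback p φ h (p.asFiber z)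
  rw [Scheme.Hom.fiberι_asFiber] at h2
  exact h2.symm

/-- The node model over a field is at worst nodal. -/
theorem smoothOrNode_node {K : Type u} [Field K] (c : K) (z : Spec (CommRingCat.of (NodeAlg K c))) :
    @SmoothOrNode K _ (Spec (CommRingCat.of (NodeAlg K c))) ⟨nodeToBase K c⟩ z := by
  letI : (Spec (CommRingCat.of (NodeAlg K c))).Over (Spec (CommRingCat.of K)) := ⟨nodeToBase K c⟩
  by_cases hz : ∀ i, uv c i ∈ z.asIdeal
  · refine Or.inr ?_
    letI := Curv2.stalkAlgebra K (Spec (CommRingCat.of (NodeAlg K c))) z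
    letI : Algebra K ((Spec (CommRingCat.of (NodeAlg K c))).presheaf.stalk
      ((𝟙 (Spec (CommRingCat.of (NodeAlg K c))) : _ ⟶ _) z)) := Curv2.stalkAlgebra K _ _
    obtain ⟨e⟩ := GeomRedFieldLib.nonempty_algEquiv_stalk
      (Spec (CommRingCat.of (NodeAlg K c)) ↘ Spec (CommRingCat.of K)) (𝟙 (Spec (CommRingCat.of (NodeAlg K c))))
      (Category.id_comp _) z (GeomRedFieldLib.fromSpecStalk_comp_over (k := K) _ z)
    haveI := (z.asIdeal).primeCompl
    haveI : Algebra.EssFiniteType (NodeAlg K c) (Localization.AtPrime z.asIdeal) :=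
      Algebra.EssFiniteType.of_isLocalization _ z.asIdeal.primeCompl
    haveI : Algebra.EssFiniteType K (Localization.AtPrime z.asIdeal) :=
      Algebra.EssFiniteType.comp K (NodeAlg K c) _
    haveI : Algebra.EssFiniteType K ((Spec (CommRingCat.of (NodeAlg K c))).presheaf.stalk
        ((𝟙 (Spec (CommRingCat.of (NodeAlg K c))) : _ ⟶ _) z)) :=
      Algebra.EssFiniteType.of_surjective e.symm.toAlgHom e.symm.surjective
    exact (isGeoNode_congr e).2 (isGeoNode_origin c z.asIdeal hz)
  · push Not at hz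
    obtain ⟨i, hi⟩ := hz
    haveI := smooth_away c i
    let j : Spec (CommRingCat.of (Localization.Away (uv c i))) ⟶ Spec (CommRingCat.of (NodeAlg K c)) :=
      Spec.map (CommRingCat.ofHom (algebraMap _ _))
    haveI : IsOpenImmersion j := IsOpenImmersion.of_isLocalization (uv c i)
    haveI : Smooth (j ≫ nodeToBase K c) := by
      rw [← Spec.map_comp, ← CommRingCat.ofHom_comp, ← IsScalarTower.algebraMap_eq]
      exact (HasRingHomProperty.Spec_iff (P := @Smooth)).2 (RingHom.smooth_algebraMap.2 inferInstance)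
    refine Or.inl ⟨j.opensRange, ?_, ?_⟩
    · show z ∈ Set.range j
      rw [show Set.range j = Set.range (PrimeSpectrum.comap (algebraMap (NodeAlg K c) (Localization.Away (uv c i)))) from rfl,
        PrimeSpectrum.localization_away_comap_range _ (uv c i)]
      exact hi
    · show Smooth (j.opensRange.ι ≫ nodeToBase K c)
      rw [← IsOpenImmersion.isoOfRangeEq_inv_fac j j.opensRange.ι (by simp)]
      rw [Category.assoc]
      infer_instance

/-- The node model over any ring is at worst nodal in every fibre. -/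
theorem son_node {A : Type u} [CommRing A] (a : A) (p : Spec (CommRingCat.of (NodeAlg A a))) :
    SON (nodeToBase A a) p := by
  haveI : LocallyOfFiniteType (nodeToBase A a) :=
    (HasRingHomProperty.Spec_iff (P := @LocallyOfFiniteType)).2 (RingHom.finiteType_algebraMap.2 inferInstance)
  let B := ((nodeToBase A a) p).asIdeal.ResidueField
  obtain ⟨e, he⟩ := isPushout a B
  let b := algebraMap A B a
  let ι : CommRingCat.of (NodeAlg A a) ⟶ CommRingCat.of (NodeAlg B b) :=
    CommRingCat.ofHom (e.toRingHom.comp (Algebra.TensorProduct.includeRight (R := A) (A := B)).toRingHom)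
  let g : Spec (CommRingCat.of B) ⟶ Spec (CommRingCat.of A) := Spec.map (CommRingCat.ofHom (algebraMap A B))
  have h1 : IsPullback (Spec.map ι) (nodeToBase B b) (nodeToBase A a) g := by
    refine isPullback_SpecMap_of_isPushout _ _ _ _ (CategoryTheory.IsPushout.of_iso
      (CommRingCat.isPushout_tensorProduct A B (NodeAlg A a)).flip (Iso.refl _) (Iso.refl _) (Iso.refl _)
      e.toRingEquiv.toCommRingCatIso ?_ ?_ ?_ ?_)
    · simp
    · simp
    · simp [ι]; rfl
    · simp; exact CommRingCat.hom_ext (RingHom.ext fun x => e.commutes x)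
  obtain ⟨p', hp', -⟩ := Scheme.Pullback.exists_preimage_pullback (f := nodeToBase A a) (g := g) p
    ⟨⊥, Ideal.isPrime_bot⟩ (by
      show _ = PrimeSpectrum.comap (algebraMap A B) ⟨⊥, Ideal.isPrime_bot⟩
      ext1
      exact (Ideal.ker_algebraMap_residueField _).symm)
  obtain ⟨q, hq⟩ : ∃ q, Spec.map ι q = p := by
    refine ⟨h1.isoPullback.inv p', ?_⟩
    rw [← Scheme.Hom.comp_apply, h1.isoPullback_inv_fst]
    exact hp'
  rw [← hq]
  haveI : LocallyOfFiniteType (nodeToBase B b) :=
    (HasRingHomProperty.Spec_iff (P := @LocallyOfFiniteType)).2 (RingHom.finiteType_algebraMap.2 inferInstance)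
  exact (son_baseChange h1 q).1 ((son_field _ q).2 (smoothOrNode_node b q))

section Main

variable {C D S : Scheme.{u}} {φ : C ⟶ S} {i : D ⟶ C}

theorem smooth_of_line {x : C} (h : HasLineChartAt φ i x) :
    ∃ U : C.Opens, x ∈ U ∧ Smooth (U.ι ≫ φ) ∧ Etale ((i ⁻¹ᵁ U).ι ≫ i ≫ φ) := by
  obtain ⟨A, j, hj, U, hx, q, hq, f, fD, hf, hfq, hfD, hsq⟩ := h
  have e : lineZero A ≫ lineToBase A = 𝟙 _ := by
    rw [← Spec.map_comp, ← CommRingCat.ofHom_comp,
      show (Polynomial.evalRingHom (0 : A)).comp Polynomial.C = RingHom.id _ from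
        RingHom.ext fun r => Polynomial.eval_C]
    exact Spec.map_id _
  haveI : Smooth (lineToBase A) :=
    (HasRingHomProperty.Spec_iff (P := @Smooth)).2
      ((RingHom.smooth_algebraMap (R := A) (S := Polynomial A)).2 ⟨inferInstance, inferInstance⟩)
  refine ⟨U, hx, ?_, ?_⟩
  · rw [hq, ← hfq]
    infer_instance
  · rw [← Category.assoc, ← morphismRestrict_ι i U, Category.assoc, hq, ← hfq]
    rw [show (i ∣_ U) ≫ (f ≫ lineToBase A) ≫ j = ((i ∣_ U) ≫ f) ≫ lineToBase A ≫ j by simp [Category.assoc], ← hsq,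
      Category.assoc, reassoc_of% e]
    infer_instance

theorem line_of_marked (h : IsStrictlySemistable φ i) (d : D) : HasLineChartAt φ i (i d) := by
  refine (h.2 (i d)).resolve_right ?_
  rintro ⟨A, j, hj, U, hx, q, hq, a, f, hf, hfq, hd⟩
  exact Set.disjoint_left.1 hd ⟨d, rfl⟩ hx

theorem son (h : IsStrictlySemistable φ i) [LocallyOfFiniteType φ] (x : C) : SON φ x := by
  suffices ∃ (U : C.Opens) (hx : x ∈ U), SON (U.ι ≫ φ) ⟨x, hx⟩ by
    obtain ⟨U, hx, hU⟩ := this
    exact (smoothOrNode_comp_etale φ U.ι (⟨x, hx⟩ : U)).2 hU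
  rcases h.2 x with hl | ⟨A, j, hj, U, hx, q, hq, a, f, hf, hfq, -⟩
  · obtain ⟨U, hx, hU, -⟩ := smooth_of_line hl
    exact ⟨U, hx, son_of_smooth _ _⟩
  · refine ⟨U, hx, ?_⟩
    haveI : LocallyOfFiniteType (nodeToBase A a) :=
      (HasRingHomProperty.Spec_iff (P := @LocallyOfFiniteType)).2 (RingHom.finiteType_algebraMap.2 inferInstance)
    rw [hq, ← hfq, Category.assoc]
    refine (smoothOrNode_comp_etale (nodeToBase A a ≫ j) f _).1 ?_
    exact (son_baseChange (fst := 𝟙 _) (snd := nodeToBase A a) (f := nodeToBase A a ≫ j) (g := j)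
      (isPullback_mono (nodeToBase A a) j) _).1 (son_node a _)

theorem isSemistable (h : IsStrictlySemistable φ i) : SSMod.IsSemistable φ i := by
  obtain ⟨hfl, hlfp, hqc, hqs, hrel, hcl, hDfl, hDlfp, hDrel⟩ := h.1
  haveI := hlfp
  refine ⟨h.1, (isNodalFamily_iff_pt φ).2 ⟨hfl, hlfp, fun p =>
    ⟨(localFibreDim_eq φ p).symm.trans ((localFibreDim_eq_one_iff φ).2 hrel p), son h p⟩⟩, ?_, ?_⟩
  · choose U hxU hU hE using fun d : D => smooth_of_line (line_of_marked h d)
    have hsup : ⨆ d, (i ⁻¹ᵁ U d) = ⊤ := TopologicalSpace.Opens.ext (Set.eq_univ_of_forall fun d =>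
      SetLike.mem_coe.2 (TopologicalSpace.Opens.mem_iSup.2 ⟨d, hxU d⟩))
    exact (IsZariskiLocalAtSource.iff_of_iSup_eq_top (P := @Etale) _ hsup).2 hE
  · refine Set.disjoint_left.2 ?_
    rintro _ ⟨d, rfl⟩ hns
    obtain ⟨U, hx, hU, -⟩ := smooth_of_line (line_of_marked h d)
    exact hns ((smooth_nhd_iff φ (i d)).1 ⟨U, hx, hU⟩)

end Main

end StrictSSLib

end
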