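import Groth.Agent.StrictSSLib.Main
import Groth.Agent.GeomRedFieldLib.Stratify
import Groth.Agent.GeomIntLib.Basic
import Groth.Agent.FibDimLib.Local
import Groth.Agent.AlgSpLib.ReducedSmooth
import Groth.Agent.S7791
import Groth.Agent.DevissLib.ClosedImm

/-!
# Components of a strictly semistable curve over a field are smooth
-/

set_option autoImplicit false
set_option linter.style.haveILetI false
set_option linter.unusedSectionVars false
set_option maxHeartbeats 1000000
set_option synthInstance.maxHeartbeats 100000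
set_option backward.isDefEq.respectTransparency false
set_option backward.isDefEq.respectTransparency.types false

universe u

open CategoryTheory CategoryTheory.Limits AlgebraicGeometry StrictSS TopologicalSpace Topology

noncomputable section

namespace StrictSSLib

/-- A point with integral local ring lies in one irreducible component. -/
theorem component_unique {Y : Scheme.{u}} (a : Y) [IsDomain (Y.presheaf.stalk a)] {W W' : Set Y}
    (hW : W ∈ irreducibleComponents (Y : Type u)) (hW' : W' ∈ irreducibleComponents (Y : Type u))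
    (ha : a ∈ W) (ha' : a ∈ W') : W = W' := by
  have aux : ∀ {W : Set Y}, W ∈ irreducibleComponents (Y : Type u) → a ∈ W →
      W = closure {EquidimLib.stalkPt a ⟨⊥, Ideal.isPrime_bot⟩} := by
    intro W hW ha
    have hg := hW.1.isGenericPoint_genericPoint_closure
    rw [(isClosed_of_mem_irreducibleComponents W hW).closure_eq] at hg
    rw [← GeomIntLib.eq_of_isDomain a (fun z hz => ?_) (hg.specializes ha)]
    · exact hg.def.symm
    · have hle : W ≤ closure {z} := by
        rw [← hg.def]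
        exact closure_minimal (Set.singleton_subset_iff.2 (specializes_iff_mem_closure.1 hz)) isClosed_closure
      exact (hz.antisymm (hg.specializes (hW.2 isIrreducible_singleton.closure hle (subset_closure rfl)))).eq
  rw [aux hW ha, aux hW' ha']

variable {k : Type u} [Field k]

theorem isPreirreducible_preimage {α β : Type*} [TopologicalSpace α] [TopologicalSpace β] {f : α → β}
    (hf : IsInducing f) {Z : Set β} (hZ : Z ⊆ Set.range f) (h : IsPreirreducible Z) : IsPreirreducible (f ⁻¹' Z) := by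
  rintro u v hu hv ⟨a, haZ, hau⟩ ⟨b, hbZ, hbv⟩
  obtain ⟨u', hu', rfl⟩ := hf.isOpen_iff.1 hu
  obtain ⟨v', hv', rfl⟩ := hf.isOpen_iff.1 hv
  obtain ⟨w, hwZ, hw⟩ := h u' v' hu' hv' ⟨f a, haZ, hau⟩ ⟨f b, hbZ, hbv⟩
  obtain ⟨c, rfl⟩ := hZ hwZ
  exact ⟨c, hwZ, hw⟩

/-- A scheme covered by two smooth closed subschemes: near each point of a component, the component is one of them. -/
theorem exists_smooth_piece {U : Scheme.{u}} (q : U ⟶ Spec (CommRingCat.of k)) {P : Fin 2 → Scheme.{u}}
    (g : ∀ i, P i ⟶ U) [∀ i, IsClosedImmersion (g i)] (hs : ∀ i, Smooth (g i ≫ q))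
    (hcov : ∀ y, ∃ i, y ∈ Set.range (g i)) {Z : Set U} (hZ : Z ∈ irreducibleComponents (U : Type u))
    (y : U) (hy : y ∈ Z) :
    ∃ (V : U.Opens) (Q : Scheme.{u}) (h : Q ⟶ U), y ∈ V ∧ IsImmersion h ∧ Smooth (h ≫ q) ∧
      Set.range h = Z ∩ V := by
  have hc : ∀ i, IsClosed (Set.range (g i)) := fun i => (g i).isClosedEmbedding.isClosed_range
  obtain ⟨i, hi⟩ : ∃ i, Z ⊆ Set.range (g i) := by
    have h := (isPreirreducible_iff_isClosed_union_isClosed.1 hZ.1.isPreirreducible) _ _ (hc 0) (hc 1) (fun z _ => by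
      obtain ⟨j, hj⟩ := hcov z
      fin_cases j
      · exact Or.inl hj
      · exact Or.inr hj)
    exact h.elim (fun h => ⟨0, h⟩) (fun h => ⟨1, h⟩)
  obtain ⟨p, rfl⟩ := hi hy
  have hge := (g i).isClosedEmbedding
  have hZ' : g i ⁻¹' Z ∈ irreducibleComponents (P i : Type u) := by
    have hirr : IsIrreducible (g i ⁻¹' Z) := ⟨⟨p, hy⟩, isPreirreducible_preimage hge.isInducing hi hZ.1.isPreirreducible⟩
    refine ⟨hirr, fun T hT hle z hz => hZ.2 (hT.image (g i) hge.continuous.continuousOn) ?_ ⟨z, hz, rfl⟩⟩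
    rintro w hw
    obtain ⟨w', rfl⟩ := hi hw
    exact ⟨w', hle hw, rfl⟩
  haveI := hs i
  haveI : IsLocallyNoetherian (P i) := LocallyOfFiniteType.isLocallyNoetherian (g i ≫ q)
  haveI := Groth.Agent.S7791.isDomain_stalk_of_smooth k _ (g i ≫ q) p
  obtain ⟨O, G, hpO, -, hG, hOG⟩ := FibDimLib.exists_nhd_components p
  have hO : (O : Set (P i)) ⊆ g i ⁻¹' Z := fun w hw => by
    obtain ⟨gg, hgg, hgw⟩ := hOG w hw
    rw [← component_unique p (hG gg hgg).1 hZ' ((hG gg hgg).2.mem_closure) hy]
    exact hgw.mem_closure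
  obtain ⟨V, hV, hVO⟩ := hge.isInducing.isOpen_iff.1 O.isOpen
  haveI : IsImmersion (O.ι ≫ g i) := inferInstance
  refine ⟨⟨V, hV⟩, O, O.ι ≫ g i, ?_, inferInstance, by rw [Category.assoc]; infer_instance, ?_⟩
  · exact (Set.ext_iff.1 hVO p).2 hpO
  · rw [Scheme.Hom.comp_base, TopCat.coe_comp, Set.range_comp, Scheme.Opens.range_ι]
    ext w
    constructor
    · rintro ⟨w', hw', rfl⟩
      exact ⟨hO hw', (Set.ext_iff.1 hVO w').2 hw'⟩
    · rintro ⟨hwZ, hwV⟩
      obtain ⟨w', rfl⟩ := hi hwZ
      exact ⟨w', (Set.ext_iff.1 hVO w').1 hwV, rfl⟩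

/-- Charts by schemes covered by two smooth branches make every component smooth. -/
theorem smooth_component {C : Scheme.{u}} (φ : C ⟶ Spec (CommRingCat.of k))
    (h : ∀ x : C, ∃ (U : Scheme.{u}) (o : U ⟶ C) (P : Fin 2 → Scheme.{u}) (g : ∀ i, P i ⟶ U),
      IsOpenImmersion o ∧ x ∈ Set.range o ∧ (∀ i, IsClosedImmersion (g i)) ∧ (∀ i, Smooth (g i ≫ o ≫ φ)) ∧
        ∀ y, ∃ i, y ∈ Set.range (g i))
    (Z : Set C) (hZ : Z ∈ irreducibleComponents (C : Type u)) :
    ∃ (W : Scheme.{u}) (e : W ⟶ C), IsClosedImmersion e ∧ IsReduced W ∧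
      Set.range e.base = Z ∧ Smooth (e ≫ φ) := by
  let I := Scheme.IdealSheafData.vanishingIdeal (⟨Z, isClosed_of_mem_irreducibleComponents Z hZ⟩ : Closeds C)
  haveI : IsReduced I.subscheme := DevissLib.isReduced_vanishingIdeal' _
  have hr : Set.range I.subschemeι = Z := by
    rw [Scheme.IdealSheafData.range_subschemeι, Scheme.IdealSheafData.coe_support_vanishingIdeal]
    rfl
  refine ⟨I.subscheme, I.subschemeι, inferInstance, inferInstance, hr, ?_⟩
  have key : ∀ w : I.subscheme, ∃ O : I.subscheme.Opens, w ∈ O ∧ Smooth (O.ι ≫ I.subschemeι ≫ φ) := fun w => by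
    obtain ⟨U, o, P, g, ho, ⟨y, hy⟩, hg, hs, hcov⟩ := h (I.subschemeι w)
    haveI := ho
    haveI := hg
    have hyZ : o y ∈ Z := hy ▸ hr.subset ⟨w, rfl⟩
    have hZU : o ⁻¹' Z ∈ irreducibleComponents (U : Type u) :=
      preimage_mem_irreducibleComponents hZ o.isOpenEmbedding ⟨o y, hyZ, y, rfl⟩
    obtain ⟨V, Q, m, hyV, hm, hms, hmr⟩ := exists_smooth_piece (o ≫ φ) g hs hcov hZU y hyZ
    haveI := hm
    haveI := hms
    haveI : IsReduced Q := AlgSpLib.isReduced_of_smooth (m ≫ o ≫ φ)
    let O := I.subschemeι ⁻¹ᵁ (o ''ᵁ V)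
    refine ⟨O, ⟨y, hyV, hy⟩, ?_⟩
    obtain ⟨e, he⟩ := GeomRedFieldLib.exists_iso_of_range_eq (O.ι ≫ I.subschemeι) (m ≫ o) (by
      rw [Scheme.Hom.comp_base, TopCat.coe_comp, Set.range_comp, Scheme.Opens.range_ι,
        Scheme.Hom.comp_base, TopCat.coe_comp, Set.range_comp, hmr, Set.image_preimage_inter]
      show I.subschemeι '' (I.subschemeι ⁻¹' (o '' (V : Set U))) = Z ∩ o '' (V : Set U)
      rw [Set.image_preimage_eq_inter_range, hr, Set.inter_comm])
    rw [← Category.assoc, ← he, Category.assoc, Category.assoc]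
    infer_instance
  choose O hO hOs using key
  exact (IsZariskiLocalAtSource.iff_of_iSup_eq_top (P := @Smooth) O (TopologicalSpace.Opens.ext
    (Set.eq_univ_of_forall fun w => SetLike.mem_coe.2 (TopologicalSpace.Opens.mem_iSup.2 ⟨w, hO w⟩)))).2 hOs

/-- The branch of the node model along the `i`-th coordinate. -/
def branchHom (A : Type u) [CommRing A] (i : Fin 2) : NodeAlg A 0 →ₐ[A] Polynomial A :=
  lift 0 (fun j => if j = i then Polynomial.X else 0) (by fin_cases i <;> simp)

theorem branchHom_surjective (A : Type u) [CommRing A] (i : Fin 2) : Function.Surjective (branchHom A i) := by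
  intro p
  refine ⟨Polynomial.aeval (uv (0 : A) i) p, ?_⟩
  rw [← Polynomial.aeval_algHom_apply]
  simp [branchHom]

theorem branch_cover {A : Type u} [CommRing A] (z : Spec (CommRingCat.of (NodeAlg A 0))) :
    ∃ i, z ∈ Set.range (Spec.map (CommRingCat.ofHom (branchHom A i).toRingHom)) := by
  obtain ⟨i, hi⟩ : ∃ i : Fin 2, uv (0 : A) i.rev ∈ z.asIdeal := by
    have h0 : uv (0 : A) 0 * uv (0 : A) 1 ∈ z.asIdeal := by
      have e : uv (0 : A) 0 * uv (0 : A) 1 = 0 := (uv_mul (0 : A)).trans (map_zero _)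
      exact e ▸ Submodule.zero_mem _
    exact (z.isPrime.mem_or_mem h0).elim (fun h => ⟨1, h⟩) (fun h => ⟨0, h⟩)
  refine ⟨i, ?_⟩
  show z ∈ Set.range (PrimeSpectrum.comap (branchHom A i).toRingHom)
  rw [range_comap_of_surjective _ _ (branchHom_surjective A i), PrimeSpectrum.mem_zeroLocus]
  intro f hf
  let π := Ideal.Quotient.mkₐ A z.asIdeal
  have key : (π.comp (Polynomial.aeval (uv (0 : A) i))).comp (branchHom A i) = π := by
    refine algHom_ext' (0 : A) fun j => ?_
    by_cases hj : j = i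
    · simp [branchHom, hj]
    · have e : j = i.rev := by fin_cases i <;> fin_cases j <;> simp_all
      subst e
      simp only [AlgHom.coe_comp, Function.comp_apply, branchHom, lift_uv, if_neg hj, map_zero]
      exact (Ideal.Quotient.eq_zero_iff_mem.2 hi).symm
  have hf0 : branchHom A i f = 0 := hf
  have := congrArg (fun t => t f) key
  simp only [AlgHom.coe_comp, Function.comp_apply, hf0, map_zero] at this
  exact Ideal.Quotient.eq_zero_iff_mem.1 this.symm

theorem smooth_lineToBase (A : Type u) [CommRing A] : Smooth (lineToBase A) :=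
  (HasRingHomProperty.Spec_iff (P := @Smooth)).2
    ((RingHom.smooth_algebraMap (R := A) (S := Polynomial A)).2 ⟨inferInstance, inferInstance⟩)

theorem chart_cases {C D : Scheme.{u}} {φ : C ⟶ Spec (CommRingCat.of k)} {i : D ⟶ C} (x : C)
    (h : HasLineChartAt φ i x ∨ HasNodeChartAt φ i x) :
    ∃ (U : Scheme.{u}) (o : U ⟶ C) (P : Fin 2 → Scheme.{u}) (g : ∀ i, P i ⟶ U),
      IsOpenImmersion o ∧ x ∈ Set.range o ∧ (∀ i, IsClosedImmersion (g i)) ∧ (∀ i, Smooth (g i ≫ o ≫ φ)) ∧
        ∀ y, ∃ i, y ∈ Set.range (g i) := by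
  have single : ∀ (V : C.Opens), x ∈ V → Smooth (V.ι ≫ φ) →
      ∃ (U : Scheme.{u}) (o : U ⟶ C) (P : Fin 2 → Scheme.{u}) (g : ∀ i, P i ⟶ U),
        IsOpenImmersion o ∧ x ∈ Set.range o ∧ (∀ i, IsClosedImmersion (g i)) ∧ (∀ i, Smooth (g i ≫ o ≫ φ)) ∧
          ∀ y, ∃ i, y ∈ Set.range (g i) := fun V hV hs =>
    ⟨V, V.ι, fun _ => V, fun _ => 𝟙 _, inferInstance, by rw [Scheme.Opens.range_ι]; exact hV,
      fun _ => inferInstance, fun _ => by simpa using hs, fun y => ⟨0, y, rfl⟩⟩
  rcases h with hl | ⟨A, j, hj, U, hx, q, hq, a, f, hf, hfq, -⟩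
  · obtain ⟨V, hV, hs, -⟩ := smooth_of_line hl
    exact single V hV hs
  by_cases hor : ∀ l, uv a l ∈ (f ⟨x, hx⟩).asIdeal
  · -- the origin: `a` lies in a prime of the field `A`
    haveI : Nonempty ↥(Spec A) := ⟨q ⟨x, hx⟩⟩
    haveI : Surjective j := ⟨fun s => ⟨Classical.arbitrary _, Subsingleton.elim _ _⟩⟩
    haveI : IsIso j := (isIso_iff_isOpenImmersion_and_epi_base j).2
      ⟨hj, (TopCat.epi_iff_surjective _).2 (‹Surjective j›).surj⟩
    obtain ⟨ψ, rfl⟩ := Spec.map_surjective j
    haveI : IsIso ψ := by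
      haveI : IsIso (Scheme.Spec.map ψ.op) := ‹IsIso (Spec.map ψ)›
      haveI := isIso_of_reflects_iso ψ.op Scheme.Spec
      exact isIso_of_op ψ
    have hfield : IsField A :=
      MulEquiv.isField (Field.toIsField k) (asIso ψ).commRingCatIsoToRingEquiv.symm.toMulEquiv
    have ha : a = 0 := by
      by_contra hne
      obtain ⟨b, hb⟩ := hfield.mul_inv_cancel hne
      have h1 : algebraMap A (NodeAlg A a) a ∈ (f ⟨x, hx⟩).asIdeal := by
        rw [← uv_mul]; exact Ideal.mul_mem_right _ _ (hor 0)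
      exact (f ⟨x, hx⟩).isPrime.ne_top
        (Ideal.eq_top_of_isUnit_mem _ h1 ((IsUnit.of_mul_eq_one b hb).map _))
    subst ha
    let L : ∀ l, Spec (CommRingCat.of (Polynomial A)) ⟶ Spec (CommRingCat.of (NodeAlg A 0)) :=
      fun l => Spec.map (CommRingCat.ofHom (branchHom A l).toRingHom)
    haveI : ∀ l, IsClosedImmersion (L l) := fun l => IsClosedImmersion.spec_of_surjective _ (branchHom_surjective A l)
    have hL : ∀ l, L l ≫ nodeToBase A 0 = lineToBase A := fun l => by
      rw [← Spec.map_comp, ← CommRingCat.ofHom_comp]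
      exact congrArg (fun r => Spec.map (CommRingCat.ofHom r)) (RingHom.ext fun c => (branchHom A l).commutes c)
    refine ⟨U, U.ι, fun l => pullback f (L l), fun l => pullback.fst f (L l), inferInstance,
      by rw [Scheme.Opens.range_ι]; exact hx, fun l => inferInstance, fun l => ?_, fun y => ?_⟩
    · haveI := smooth_lineToBase A
      haveI : Etale (pullback.snd f (L l)) := MorphismProperty.pullback_snd _ _ hf
      rw [hq, ← hfq, Category.assoc, pullback.condition_assoc, reassoc_of% (hL l)]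
      infer_instance
    · obtain ⟨l, hl⟩ := branch_cover (f y)
      exact ⟨l, by rw [Scheme.Pullback.range_fst]; exact hl⟩
  · push Not at hor
    obtain ⟨l, hl⟩ := hor
    haveI := smooth_away a l
    let m : Spec (CommRingCat.of (Localization.Away (uv a l))) ⟶ Spec (CommRingCat.of (NodeAlg A a)) :=
      Spec.map (CommRingCat.ofHom (algebraMap _ _))
    haveI : IsOpenImmersion m := IsOpenImmersion.of_isLocalization (uv a l)
    haveI : Smooth (m ≫ nodeToBase A a) := by
      rw [← Spec.map_comp, ← CommRingCat.ofHom_comp, ← IsScalarTower.algebraMap_eq]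
      exact (HasRingHomProperty.Spec_iff (P := @Smooth)).2 (RingHom.smooth_algebraMap.2 inferInstance)
    haveI : Etale (pullback.snd f m) := MorphismProperty.pullback_snd _ _ hf
    let o := pullback.fst f m ≫ U.ι
    refine ⟨pullback f m, o, fun _ => pullback f m, fun _ => 𝟙 _, inferInstance, ?_, fun _ => inferInstance,
      fun _ => ?_, fun y => ⟨0, y, rfl⟩⟩
    · have hm : f ⟨x, hx⟩ ∈ Set.range m := by
        show f ⟨x, hx⟩ ∈ Set.range (PrimeSpectrum.comap (algebraMap (NodeAlg A a) (Localization.Away (uv a l))))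
        rw [PrimeSpectrum.localization_away_comap_range _ (uv a l)]
        exact hl
      obtain ⟨w, hw⟩ : (⟨x, hx⟩ : U) ∈ Set.range (pullback.fst f m) := by
        rw [Scheme.Pullback.range_fst]; exact hm
      exact ⟨w, by show U.ι (pullback.fst f m w) = x; rw [hw]; rfl⟩
    · rw [Category.id_comp, Category.assoc, hq, ← hfq, Category.assoc, pullback.condition_assoc,
        ← Category.assoc m]
      infer_instance

end StrictSSLib

end
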