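import Groth.Agent.StrictSSLib.ConvRing
import Groth.Agent.StrictSSLib.Branch
import Groth.Agent.CIGenLib.SmoothPts
import Groth.Agent.StrictSSLib.Ev

/-!
# Semistable curves with smooth components are strictly semistable
-/

set_option autoImplicit false
set_option linter.style.haveILetI false
set_option linter.unusedSectionVars false
set_option maxHeartbeats 1000000
set_option synthInstance.maxHeartbeats 100000
set_option backward.isDefEq.respectTransparency false
set_option backward.isDefEq.respectTransparency.types false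

universe u

open CategoryTheory CategoryTheory.Limits AlgebraicGeometry IsLocalRing StrictSS NodalLib

noncomputable section

namespace StrictSSLib

variable {k : Type u} [Field k]

/-- An algebra map that is etale at a point gives an etale chart near it. -/
theorem exists_chart_of_etaleAt {C : Scheme.{u}} (φ : C ⟶ Spec (CommRingCat.of k)) {T : Type u} [CommRing T]
    [Algebra k T] [Algebra.FinitePresentation k T] (j : Spec (CommRingCat.of T) ⟶ C) [IsOpenImmersion j]
    (hj : j ≫ φ = GeomRedFieldLib.str k T) (q : PrimeSpectrum T) (N : Type u) [CommRing N] [Algebra k N]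
    [Algebra.FiniteType k N] [Algebra N T] [IsScalarTower k N T] [Algebra.IsEtaleAt N q.asIdeal] :
    ∃ (U : C.Opens) (f : (U : Scheme.{u}) ⟶ Spec (CommRingCat.of N)) (hq : j q ∈ U), (U : Set C) ⊆ Set.range j ∧
      Etale f ∧ f ≫ Spec.map (CommRingCat.ofHom (algebraMap k N)) = U.ι ≫ φ ∧
      (f ⟨j q, hq⟩).asIdeal = q.asIdeal.comap (algebraMap N T) := by
  haveI : Algebra.FinitePresentation N T :=
    Algebra.FinitePresentation.of_restrict_scalars_finitePresentation k _ _
  obtain ⟨g, hg, het⟩ := Algebra.exists_etale_of_isEtaleAt (R := N) q.asIdeal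
  let m : Spec (CommRingCat.of (Localization.Away g)) ⟶ Spec (CommRingCat.of T) :=
    Spec.map (CommRingCat.ofHom (algebraMap _ _))
  haveI : IsOpenImmersion m := IsOpenImmersion.of_isLocalization g
  let f₀ : Spec (CommRingCat.of (Localization.Away g)) ⟶ Spec (CommRingCat.of N) :=
    Spec.map (CommRingCat.ofHom (algebraMap _ _))
  haveI : Etale f₀ := (HasRingHomProperty.Spec_iff (P := @Etale)).2 (RingHom.etale_algebraMap.2 het)
  let o := m ≫ j
  let U := o.opensRange
  let e := IsOpenImmersion.isoOfRangeEq o U.ι (by simp [U])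
  have hle : (U : Set C) ⊆ Set.range j := by
    rintro _ ⟨z, rfl⟩
    exact ⟨m z, rfl⟩
  obtain ⟨z, hz⟩ : q ∈ Set.range m := by
    show q ∈ Set.range (PrimeSpectrum.comap (algebraMap T (Localization.Away g)))
    rw [PrimeSpectrum.localization_away_comap_range (Localization.Away g) g]
    exact hg
  have hqU : j q ∈ U := ⟨z, congrArg j hz⟩
  refine ⟨U, e.inv ≫ f₀, hqU, hle, inferInstance, ?_, ?_⟩
  · rw [← IsOpenImmersion.isoOfRangeEq_inv_fac o U.ι (by simp [U]), Category.assoc, Category.assoc, Category.assoc, hj,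
      ← Spec.map_comp, GeomRedFieldLib.str, ← Spec.map_comp, ← CommRingCat.ofHom_comp, ← CommRingCat.ofHom_comp,
      ← IsScalarTower.algebraMap_eq, ← IsScalarTower.algebraMap_eq]
  · have hez : e.inv (⟨j q, hqU⟩ : U) = z := by
      refine o.isOpenEmbedding.injective ?_
      rw [← Scheme.Hom.comp_apply, IsOpenImmersion.isoOfRangeEq_inv_fac]
      exact (congrArg j hz).symm
    rw [Scheme.Hom.comp_apply, hez, ← hz]
    show (z.asIdeal.comap (algebraMap N (Localization.Away g))) = (z.asIdeal.comap (algebraMap T (Localization.Away g))).comap (algebraMap N T)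
    rw [Ideal.comap_comap, ← IsScalarTower.algebraMap_eq]

/-- Curves: every component of a scheme over a point is a component of the fibre. -/
theorem curveDims_of_hasRelDim {C : Scheme.{u}} (φ : C ⟶ Spec (CommRingCat.of k)) (h : Cyc.HasRelDim φ 1) :
    CurveDims C := by
  let s : ↥(Spec (CommRingCat.of k)) := ⟨⊥, Ideal.isPrime_bot⟩
  have hr : Set.range (φ.fiberι s) = Set.univ := by
    rw [φ.range_fiberι]
    exact Set.eq_univ_of_forall fun c => Subsingleton.elim (α := PrimeSpectrum k) _ _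
  let e : φ.fiber s ≃ₜ C := Topology.IsEmbedding.toHomeomorphOfSurjective (φ.fiberι s).isEmbedding
    (Set.range_eq_univ.1 hr)
  intro Z hZ
  have hZ' := preimage_mem_irreducibleComponents hZ e.isOpenEmbedding (by
    obtain ⟨c, hc⟩ := hZ.1.nonempty
    exact ⟨c, hc, e.surjective c⟩)
  exact ((IsHomeomorph.topologicalKrullDim_eq _ (e.sets (s := e ⁻¹' Z) (t := Z) rfl).isHomeomorph).symm.trans
    (h s _ hZ')).trans (by simp)

variable [IsSepClosed k]

theorem exists_const {L : Type u} [CommRing L] [IsLocalRing L] [Algebra k L]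
    [Algebra.IsSeparable k (ResidueField L)] (z : L) : ∃ c : k, z - algebraMap k L c ∈ maximalIdeal L := by
  obtain ⟨c, hc⟩ := IsSepClosed.algebraMap_surjective k (ResidueField L) (residue L z)
  refine ⟨c, (residue_eq_zero_iff _).1 ?_⟩
  rw [map_sub, sub_eq_zero, ← hc, IsScalarTower.algebraMap_apply k L (ResidueField L)]
  rfl

/-- At a node whose component is smooth there is a node chart. -/
theorem exists_node_chart_of_smooth_component {C : Scheme.{u}} (φ : C ⟶ Spec (CommRingCat.of k))
    [LocallyOfFiniteType φ] [IsReduced C] (x : C) (hxc : IsClosed ({x} : Set C))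
    (hnode : letI : C.Over (Spec (CommRingCat.of k)) := ⟨φ⟩; letI := Curv2.stalkAlgebra k C x
      IsGeoNode k (C.presheaf.stalk x))
    (hcd : CurveDims C)
    (hZ : ∀ Z ∈ irreducibleComponents (C : Type u), ∃ (W : Scheme.{u}) (e : W ⟶ C),
      IsClosedImmersion e ∧ IsReduced W ∧ Set.range e.base = Z ∧ Smooth (e ≫ φ)) (O : C.Opens) (hxO : x ∈ O) :
    ∃ (U : C.Opens) (f : (U : Scheme.{u}) ⟶ Spec (CommRingCat.of (NodeAlg k 0))), x ∈ U ∧ U ≤ O ∧ Etale f ∧
      f ≫ nodeToBase k 0 = U.ι ≫ φ := by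
  letI : C.Over (Spec (CommRingCat.of k)) := ⟨φ⟩
  haveI : LocallyOfFiniteType (C ↘ Spec (CommRingCat.of k)) := ‹LocallyOfFiniteType φ›
  obtain ⟨V, hV, hxV, hVO⟩ := exists_isAffineOpen_mem_and_subset (x := x) (U := O) hxO
  obtain ⟨ψ, hψ⟩ := Spec.map_surjective (hV.fromSpec ≫ φ)
  algebraize [ψ.hom]
  let T := Γ(C, V)
  let j : Spec (CommRingCat.of T) ⟶ C := hV.fromSpec
  have hj : j ≫ φ = GeomRedFieldLib.str k T := hψ.symm
  haveI : Algebra.FiniteType k T := by
    haveI : LocallyOfFiniteType (Spec.map ψ) := hψ ▸ inferInstance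
    exact (HasRingHomProperty.Spec_iff (P := @LocallyOfFiniteType)).1 this
  haveI : Algebra.FinitePresentation k T := Algebra.FinitePresentation.of_finiteType.1 inferInstance
  obtain ⟨q, rfl⟩ : x ∈ Set.range j := hV.range_fromSpec.symm ▸ hxV
  letI := Curv2.stalkAlgebra k C (j q)
  let L := Localization.AtPrime q.asIdeal
  obtain ⟨est⟩ := GeomRedFieldLib.nonempty_algEquiv_stalk φ j hj q (GeomRedFieldLib.fromSpecStalk_comp_over (k := k) C (j q))
  haveI := essFiniteType_stalk k (X := C) (j q)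
  haveI : Algebra.EssFiniteType T L := Algebra.EssFiniteType.of_isLocalization L q.asIdeal.primeCompl
  haveI : Algebra.EssFiniteType k L := Algebra.EssFiniteType.comp k T L
  haveI : IsNoetherianRing L := Algebra.EssFiniteType.isNoetherianRing k L
  obtain ⟨hsep, hQ⟩ := isGeoNode_iff_qnode.1 ((isGeoNode_congr est).1 hnode)
  haveI := hsep
  haveI : _root_.IsReduced L := isReduced_of_injective est.symm.toRingHom est.symm.injective
  -- the smooth branch
  let Z := irreducibleComponent (j q)
  have hZc : Z ∈ irreducibleComponents (C : Type u) := irreducibleComponent_mem_irreducibleComponents _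
  obtain ⟨W, e, he, hWr, hWZ, hWs⟩ := hZ Z hZc
  haveI := he
  haveI := hWs
  obtain ⟨w, hw⟩ : j q ∈ Set.range e.base := hWZ.symm ▸ mem_irreducibleComponent
  haveI : IsLocallyNoetherian W := LocallyOfFiniteType.isLocallyNoetherian (e ≫ φ)
  letI : W.Over (Spec (CommRingCat.of k)) := ⟨e ≫ φ⟩
  haveI : Smooth (W ↘ Spec (CommRingCat.of k)) := hWs
  let D := W.presheaf.stalk w
  haveI : IsRegularLocalRing D := Groth.Agent.S1535.result k W w
  haveI : IsDomain D := CommAlgDim.isDomain_of_isRegularLocalRing D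
  have hWd : CurveDims W := by
    intro A hA
    have hirr : IsIrreducible (Set.univ : Set W) := by
      refine ⟨⟨w, trivial⟩, ?_⟩
      have h := isPreirreducible_preimage e.isEmbedding.isInducing hWZ.symm.subset hZc.1.isPreirreducible
      rwa [Set.preimage_eq_univ_iff.2 (hWZ.subset)] at h
    have hAu : A = Set.univ := Set.eq_univ_of_univ_subset (hA.2 hirr (Set.subset_univ A))
    subst hAu
    let h2 : ↥(Set.univ : Set W) ≃ₜ ↥Z :=
      (Homeomorph.Set.univ W).trans (e.isEmbedding.toHomeomorph.trans (Homeomorph.setCongr hWZ))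
    exact (IsHomeomorph.topologicalKrullDim_eq _ h2.isHomeomorph).trans (hcd Z hZc)
  have hwc : IsClosed ({w} : Set W) := by
    have : ({w} : Set W) = e.base ⁻¹' {j q} := Set.ext fun z => ⟨fun hz => by
      rw [Set.mem_singleton_iff.1 hz]; exact hw, fun hz => e.isEmbedding.injective (hz.trans hw.symm)⟩
    exact this ▸ hxc.preimage e.continuous
  obtain ⟨hd1, hd0⟩ := (curveDims_iff W).1 hWd w
  have hfin : (maximalIdeal D).spanFinrank = 1 := by
    have hsp := IsRegularLocalRing.spanFinrank_maximalIdeal (R := D)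
    rcases Nat.eq_zero_or_pos (maximalIdeal D).spanFinrank with h0 | h0
    · exact absurd hwc (hd0 (by rw [← hsp, h0]; rfl))
    · rw [← hsp] at hd1
      exact le_antisymm (by exact_mod_cast hd1) h0
  obtain ⟨s, hs1, hs2⟩ := Submodule.FG.exists_span_finset_card_eq_spanFinrank (IsNoetherian.noetherian (maximalIdeal D))
  rw [hfin, Finset.card_eq_one] at hs1
  obtain ⟨ϖ, rfl⟩ := hs1
  have hϖ : maximalIdeal D = Ideal.span {ϖ} := by rw [← hs2]; simp [Ideal.submodule_span_eq]
  have hϖ0 : ϖ ≠ 0 := by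
    rintro rfl
    have : maximalIdeal D = ⊥ := by rw [hϖ]; simp
    rw [this, Submodule.spanFinrank_bot] at hfin
    exact zero_ne_one hfin
  let π₀ : C.presheaf.stalk (j q) →+* D :=
    (C.presheaf.stalkSpecializes (specializes_of_eq hw) ≫ e.stalkMap w).hom
  have hπ : Function.Surjective π₀ := by
    rw [show π₀ = (C.presheaf.stalkSpecializes (specializes_of_eq hw) ≫ e.stalkMap w).hom from rfl]
    haveI : IsIso (C.presheaf.stalkSpecializes (specializes_of_eq hw)) :=
      ⟨C.presheaf.stalkSpecializes (specializes_of_eq hw.symm), by simp, by simp⟩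
    exact (e.stalkMap_surjective w).comp (ConcreteCategory.bijective_of_isIso _).2
  obtain ⟨u, v, hc⟩ := exists_cross hQ (π₀.comp est.symm.toRingHom) (hπ.comp est.symm.surjective) ϖ hϖ hϖ0
  -- clear denominators
  obtain ⟨bu, su, rfl⟩ := IsLocalization.exists_mk'_eq q.asIdeal.primeCompl u
  obtain ⟨bv, sv, rfl⟩ := IsLocalization.exists_mk'_eq q.asIdeal.primeCompl v
  have h0 : algebraMap T L (bu * bv) = 0 := by
    rw [map_mul, ← IsLocalization.mk'_spec L bu su, ← IsLocalization.mk'_spec L bv sv]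
    linear_combination (algebraMap T L su * algebraMap T L sv) * hc.mul
  obtain ⟨t, ht⟩ := (IsLocalization.map_eq_zero_iff q.asIdeal.primeCompl L _).1 h0
  let χ : NodeAlg k 0 →ₐ[k] T := lift 0 ![(t : T) * bu, bv] (by simp [mul_assoc, ht])
  algebraize [χ.toRingHom]
  haveI : IsScalarTower k (NodeAlg k 0) T := IsScalarTower.of_algebraMap_eq fun c => (χ.commutes c).symm
  have hu' : algebraMap T L (algebraMap (NodeAlg k 0) T (uv 0 0)) =
      (algebraMap T L t * algebraMap T L su) * IsLocalization.mk' L bu su := by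
    show algebraMap T L (χ (uv 0 0)) = _
    simp only [χ, lift_uv, Matrix.cons_val_zero, map_mul, mul_assoc, IsLocalization.mk'_spec']
  have hv' : algebraMap T L (algebraMap (NodeAlg k 0) T (uv 0 1)) =
      algebraMap T L sv * IsLocalization.mk' L bv sv := by
    show algebraMap T L (χ (uv 0 1)) = _
    simp only [χ, lift_uv, Matrix.cons_val_one, Matrix.cons_val_fin_one, IsLocalization.mk'_spec']
  have hcu : IsUnit (algebraMap T L t * algebraMap T L su) :=
    (IsLocalization.map_units L t).mul (IsLocalization.map_units L su)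
  have hcross : Cross (algebraMap T L (algebraMap (NodeAlg k 0) T (uv 0 0)))
      (algebraMap T L (algebraMap (NodeAlg k 0) T (uv 0 1))) := by
    obtain ⟨cu, hcu'⟩ := hcu
    obtain ⟨cv, hcv'⟩ := IsLocalization.map_units L sv
    rw [hu', hv', ← hcu', ← hcv']
    refine ⟨by rw [mul_mul_mul_comm, hc.mul, mul_zero], ?_, fun z hz => ?_, fun z hz => ?_, fun z h1 h2 => ?_⟩
    · rw [hc.gen, Ideal.span_insert, Ideal.span_insert, Ideal.span_singleton_mul_left_unit cu.isUnit,
        Ideal.span_singleton_mul_left_unit cv.isUnit]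
    · rw [Units.mul_left_dvd]
      exact hc.annU z (cu.mul_right_eq_zero.1 (by rw [mul_left_comm] at hz; exact hz))
    · rw [Units.mul_left_dvd]
      exact hc.annV z (cv.mul_right_eq_zero.1 (by rw [mul_left_comm] at hz; exact hz))
    · rw [Units.mul_left_dvd] at h1 h2
      exact hc.inter z h1 h2
  haveI := isEtaleAt_node q.asIdeal hcross (exists_const (L := L))
  obtain ⟨U, f, hxU, hUr, hf, hfe, -⟩ := exists_chart_of_etaleAt φ j hj q (NodeAlg k 0)
  exact ⟨U, f, hxU, fun z hz => hVO (hV.range_fromSpec.subset (hUr hz)), hf, hfe⟩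

/-- At a closed smooth point there is an etale map to the line, vanishing at the point if it is rational. -/
theorem exists_line_chart {C : Scheme.{u}} (φ : C ⟶ Spec (CommRingCat.of k)) [LocallyOfFiniteType φ] (x : C)
    (hxc : IsClosed ({x} : Set C)) (hsm : haveI : LocallyOfFinitePresentation φ :=
      UOpenLib.locallyOfFinitePresentation_of_isLocallyNoetherian _; x ∈ φ.smoothLocus)
    (hcd : CurveDims C) (O : C.Opens) (hxO : x ∈ O) :
    ∃ (U : C.Opens) (f : (U : Scheme.{u}) ⟶ Spec (CommRingCat.of (Polynomial k))) (hx : x ∈ U), U ≤ O ∧ Etale f ∧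
      f ≫ lineToBase k = U.ι ≫ φ ∧
      ((∀ z : C.presheaf.stalk x, ∃ c : k, z - ev φ x c ∈ maximalIdeal _) → Polynomial.X ∈ (f ⟨x, hx⟩).asIdeal) := by
  haveI : LocallyOfFinitePresentation φ := UOpenLib.locallyOfFinitePresentation_of_isLocallyNoetherian _
  obtain ⟨O', hxO', hO's⟩ := (smooth_nhd_iff φ x).2 hsm
  haveI := hO's
  let O'' := O ⊓ O'
  haveI : Smooth (O''.ι ≫ φ) := by
    rw [← C.homOfLE_ι (inf_le_right : O'' ≤ O'), Category.assoc]
    infer_instance
  obtain ⟨U₁, hU₁, V₁, hV₁, hxV₁, e₁, hstd⟩ := Smooth.exists_isStandardSmooth (O''.ι ≫ φ) (⟨x, hxO, hxO'⟩ : O'')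
  let V := O''.ι ''ᵁ V₁
  have hV : IsAffineOpen V := hV₁.image_of_isOpenImmersion O''.ι
  let T := Γ((O'' : Scheme.{u}), V₁)
  let j : Spec (CommRingCat.of T) ⟶ C := hV₁.fromSpec ≫ O''.ι
  obtain ⟨ψ, hψ⟩ := Spec.map_surjective (j ≫ φ)
  algebraize [ψ.hom]
  have hj : j ≫ φ = GeomRedFieldLib.str k T := hψ.symm
  haveI : Algebra.IsStandardSmooth k T := by
    have hU₁t : U₁ = ⊤ := top_le_iff.1 fun p _ => by
      haveI : Subsingleton ↥(Spec (CommRingCat.of k)) := inferInstanceAs (Subsingleton (PrimeSpectrum k))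
      rw [Subsingleton.elim p ((O''.ι ≫ φ) ⟨x, hxO, hxO'⟩)]
      exact e₁ hxV₁
    subst hU₁t
    have hψeq : ψ = (Scheme.ΓSpecIso (CommRingCat.of k)).inv ≫ (O''.ι ≫ φ).appLE ⊤ V₁ e₁ := by
      apply Spec.map_injective
      rw [hψ, Spec.map_comp]
      show (hV₁.fromSpec ≫ O''.ι) ≫ φ = _
      rw [Category.assoc, ← IsAffineOpen.SpecMap_appLE_fromSpec (O''.ι ≫ φ) (isAffineOpen_top _) hV₁ e₁,
        IsAffineOpen.fromSpec_top, Scheme.isoSpec_Spec_inv]
    have h2 : ψ.hom.IsStandardSmooth := by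
      rw [hψeq]
      exact RingHom.isStandardSmooth_respectsIso.2 _ (Scheme.ΓSpecIso (CommRingCat.of k)).symm.commRingCatIsoToRingEquiv hstd
    exact h2
  obtain ⟨q, hq⟩ : x ∈ Set.range j := by
    obtain ⟨q, hq⟩ : (⟨x, hxO, hxO'⟩ : O'') ∈ Set.range hV₁.fromSpec := hV₁.range_fromSpec.symm ▸ hxV₁
    exact ⟨q, by show O''.ι (hV₁.fromSpec q) = x; rw [hq]; rfl⟩
  subst hq
  haveI : q.asIdeal.IsMaximal := by
    rw [← PrimeSpectrum.isClosed_singleton_iff_isMaximal]
    have : ({q} : Set (PrimeSpectrum T)) = j ⁻¹' {j q} := Set.ext fun z =>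
      ⟨fun hz => by rw [Set.mem_singleton_iff.1 hz]; rfl, fun hz => j.isOpenEmbedding.injective hz⟩
    exact this ▸ hxc.preimage j.continuous
  haveI : Algebra.FinitePresentation k T := inferInstance
  letI : C.Over (Spec (CommRingCat.of k)) := ⟨φ⟩
  letI := Curv2.stalkAlgebra k C (j q)
  obtain ⟨est⟩ := GeomRedFieldLib.nonempty_algEquiv_stalk φ j hj q (GeomRedFieldLib.fromSpecStalk_comp_over (k := k) C (j q))
  haveI : IsLocallyNoetherian C := LocallyOfFiniteType.isLocallyNoetherian φ
  have hd : ringKrullDim (Localization.AtPrime q.asIdeal) = 1 := by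
    rw [← ringKrullDim_eq_of_ringEquiv est.toRingEquiv]
    obtain ⟨h1, h0⟩ := (curveDims_iff C).1 hcd (j q)
    refine le_antisymm h1 ?_
    have hne : ringKrullDim (C.presheaf.stalk (j q)) ≠ 0 := fun h => h0 h hxc
    have hnn : (0 : WithBot ℕ∞) ≤ ringKrullDim (C.presheaf.stalk (j q)) := ringKrullDim_nonneg_of_nontrivial
    revert hne hnn
    cases ringKrullDim (C.presheaf.stalk (j q)) with
    | bot => simp
    | coe v => intro hne _; exact_mod_cast (Order.one_le_iff_pos.2 (pos_iff_ne_zero.2 (by exact_mod_cast hne)))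
  obtain ⟨ι₀, σ₀, _, _, ⟨P⟩⟩ := (inferInstance : Algebra.IsStandardSmooth k T).out
  haveI := Algebra.SubmersivePresentation.isStandardSmoothOfRelativeDimension P rfl
  have hdim := (CIGen.stdSmooth_maximal k P.dimension T q.asIdeal).2
  rw [hd] at hdim
  haveI : Algebra.IsStandardSmoothOfRelativeDimension 1 k T := by
    have h1 : P.dimension = 1 := by exact_mod_cast hdim.symm
    exact Algebra.SubmersivePresentation.isStandardSmoothOfRelativeDimension P h1
  obtain ⟨g, hg⟩ := Algebra.IsStandardSmoothOfRelativeDimension.exists_etale_mvPolynomial 1 k T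
  obtain ⟨c, hc⟩ : ∃ c : k, (∀ z : C.presheaf.stalk (j q), ∃ c : k, z - ev φ (j q) c ∈ maximalIdeal _) →
      g (MvPolynomial.X 0) - algebraMap k T c ∈ q.asIdeal := by
    by_cases hr : ∀ z : C.presheaf.stalk (j q), ∃ c : k, z - ev φ (j q) c ∈ maximalIdeal _
    · obtain ⟨c, hc⟩ := hr (est.symm (algebraMap T _ (g (MvPolynomial.X 0))))
      refine ⟨c, fun _ => ?_⟩
      have hev : ev φ (j q) c = algebraMap k (C.presheaf.stalk (j q)) c := by
        have h1 : Spec.map (CommRingCat.ofHom (ev φ (j q))) =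
            Spec.map (CommRingCat.ofHom (algebraMap k (C.presheaf.stalk (j q)))) :=
          (spec_ev φ (j q)).trans (GeomRedFieldLib.fromSpecStalk_comp_over (k := k) C (j q))
        exact congrArg (fun t => t.hom c) (Spec.map_injective h1)
      rw [hev] at hc
      haveI : IsLocalHom est.toAlgHom.toRingHom := IsLocalHom.of_surjective _ est.surjective
      have h2 : est (est.symm (algebraMap T _ (g (MvPolynomial.X 0))) - algebraMap k _ c) ∈ maximalIdeal _ :=
        map_nonunit est.toAlgHom.toRingHom _ hc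
      rw [map_sub, AlgEquiv.apply_symm_apply, AlgEquiv.commutes,
        IsScalarTower.algebraMap_apply k T (Localization.AtPrime q.asIdeal), ← map_sub] at h2
      exact (IsLocalization.AtPrime.to_map_mem_maximal_iff _ q.asIdeal _).1 h2
    · exact ⟨0, fun h => absurd h hr⟩
  let χ : Polynomial k →ₐ[k] T := Polynomial.aeval (g (MvPolynomial.X 0) - algebraMap k T c)
  let θ : Polynomial k ≃ₐ[k] MvPolynomial (Fin 1) k :=
    (Polynomial.algEquivAevalXAddC (-c)).trans
      ((MvPolynomial.pUnitAlgEquiv k).symm.trans (MvPolynomial.renameEquiv k (Equiv.ofUnique PUnit.{1} (Fin 1))))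
  have hθ : χ = g.comp θ.toAlgHom := by
    refine Polynomial.algHom_ext ?_
    simp [χ, θ, sub_eq_add_neg]
  algebraize [χ.toRingHom]
  haveI : IsScalarTower k (Polynomial k) T := IsScalarTower.of_algebraMap_eq fun c => (χ.commutes c).symm
  haveI : Algebra.Etale (Polynomial k) T := by
    rw [← RingHom.etale_algebraMap]
    show χ.toRingHom.Etale
    rw [hθ]
    exact RingHom.Etale.respectsIso.2 g.toRingHom θ.toRingEquiv hg
  haveI : Algebra.IsEtaleAt (Polynomial k) q.asIdeal :=
    Algebra.FormallyEtale.comp (Polynomial k) T (Localization.AtPrime q.asIdeal)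
  obtain ⟨U, f, hxU, hUr, hf, hfe, hfq⟩ := exists_chart_of_etaleAt φ j hj q (Polynomial k)
  refine ⟨U, f, hxU, ?_, hf, hfe, fun hr => ?_⟩
  · intro z hz
    obtain ⟨w, rfl⟩ := hUr hz
    exact (hV₁.fromSpec w).2.1
  · rw [hfq, Ideal.mem_comap]
    show χ Polynomial.X ∈ q.asIdeal
    rw [show χ Polynomial.X = g (MvPolynomial.X 0) - algebraMap k T c by simp [χ]]
    exact hc hr

theorem line_chart_pack {C D : Scheme.{u}} {φ : C ⟶ Spec (CommRingCat.of k)} {i : D ⟶ C}
    [IsClosedImmersion i] [IsReduced D] [Etale (i ≫ φ)] (U : C.Opens)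
    (f : (U : Scheme.{u}) ⟶ Spec (CommRingCat.of (Polynomial k))) [Etale f]
    (hfe : f ≫ lineToBase k = U.ι ≫ φ) (x : C) (hx : x ∈ U)
    (hD : ∀ (d : D) (hd : i d ∈ U), Polynomial.X ∈ (f ⟨i d, hd⟩).asIdeal) :
    HasLineChartAt φ i x := by
  let V := i ⁻¹ᵁ U
  let F := (i ∣_ U) ≫ f
  haveI : IsClosedImmersion (lineZero k) := IsClosedImmersion.spec_of_surjective _ fun c =>
    ⟨Polynomial.C c, Polynomial.eval_C⟩
  haveI : IsClosedImmersion (pullback.fst F (lineZero k)) := MorphismProperty.pullback_fst _ _ inferInstance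
  haveI : IsReduced (V : Scheme.{u}) := isReduced_of_isOpenImmersion V.ι
  haveI : Surjective (pullback.fst F (lineZero k)) := ⟨fun d => by
    have : d ∈ Set.range (pullback.fst F (lineZero k)) := by
      rw [Scheme.Pullback.range_fst]
      show F d ∈ Set.range (PrimeSpectrum.comap (Polynomial.evalRingHom (0 : k)))
      have hsurj : Function.Surjective (Polynomial.evalRingHom (0 : k)) := fun c => ⟨Polynomial.C c, Polynomial.eval_C⟩
      rw [range_comap_of_surjective _ _ hsurj, PrimeSpectrum.mem_zeroLocus]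
      intro r hr
      have hr0 : Polynomial.X ∣ r := Polynomial.X_dvd_iff.2 (by
        rw [Polynomial.coeff_zero_eq_eval_zero]; exact hr)
      obtain ⟨r', rfl⟩ := hr0
      have hF : F d = f ⟨i d.1, d.2⟩ := by
        show f ((i ∣_ U) d) = _
        exact congrArg f (Subtype.ext (congrArg (fun t => t d) (morphismRestrict_ι i U)))
      rw [hF]
      exact Ideal.mul_mem_right _ _ (hD d.1 d.2)
    exact this⟩
  haveI := isIso_of_isClosedImmersion_of_surjective (pullback.fst F (lineZero k))
  have e : lineZero k ≫ lineToBase k = 𝟙 _ := by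
    rw [← Spec.map_comp, ← CommRingCat.ofHom_comp,
      show (Polynomial.evalRingHom (0 : k)).comp Polynomial.C = RingHom.id _ from
        RingHom.ext fun r => Polynomial.eval_C]
    exact Spec.map_id _
  let fD := inv (pullback.fst F (lineZero k)) ≫ pullback.snd F (lineZero k)
  have hsq : fD ≫ lineZero k = F := by
    rw [Category.assoc, ← pullback.condition, IsIso.inv_hom_id_assoc]
  have hfD : fD = V.ι ≫ i ≫ φ := by
    rw [← Category.comp_id fD]
    refine (congrArg (fD ≫ ·) e.symm).trans ?_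
    rw [← Category.assoc, hsq, Category.assoc, hfe, morphismRestrict_ι_assoc]
  refine ⟨CommRingCat.of k, 𝟙 _, inferInstance, U, hx, U.ι ≫ φ, (Category.comp_id _).symm, f, fD, inferInstance, hfe,
    ?_, hsq⟩
  rw [hfD]
  exact inferInstanceAs (Etale (V.ι ≫ (i ≫ φ)))

theorem exists_residue_of_etale {C D : Scheme.{u}} (φ : C ⟶ Spec (CommRingCat.of k)) (i : D ⟶ C)
    [IsClosedImmersion i] [Etale (i ≫ φ)] (d : D) (z : C.presheaf.stalk (i d)) :
    ∃ c : k, z - ev φ (i d) c ∈ maximalIdeal _ := by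
  letI : D.Over (Spec (CommRingCat.of k)) := ⟨i ≫ φ⟩
  haveI : LocallyOfFiniteType (D ↘ Spec (CommRingCat.of k)) :=
    inferInstanceAs (LocallyOfFiniteType (i ≫ φ))
  letI := Curv2.stalkAlgebra k D d
  haveI := essFiniteType_stalk k (X := D) d
  have hal : algebraMap k (D.presheaf.stalk d) = ev (i ≫ φ) d :=
    congrArg CommRingCat.Hom.hom (Spec.map_injective ((GeomRedFieldLib.fromSpecStalk_comp_over (k := k) D d).symm.trans
      (spec_ev (i ≫ φ) d).symm) : CommRingCat.ofHom (Curv2.stalkMap k D d) = CommRingCat.ofHom (ev (i ≫ φ) d))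
  haveI : Algebra.FormallyUnramified k (D.presheaf.stalk d) := by
    rw [← RingHom.formallyUnramified_algebraMap, hal, show ev (i ≫ φ) d =
      ((i ≫ φ).stalkMap d).hom.comp (ev (𝟙 (Spec (CommRingCat.of k))) ((i ≫ φ) d)) by
        rw [← ev_comp, Category.comp_id]]
    have h1 : (ev (𝟙 (Spec (CommRingCat.of k))) ((i ≫ φ) d)).FormallyUnramified := by
      refine RingHom.FormallyUnramified.of_surjective fun s => ?_
      obtain ⟨r, t, hrt⟩ := IsLocalization.exists_mk'_eq ((i ≫ φ) d).asIdeal.primeCompl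
        (stalkEquiv (CommRingCat.of k) ((i ≫ φ) d) s)
      have ht : (t : k) ≠ 0 := fun h => t.2 (h ▸ zero_mem _)
      refine ⟨r * (t : k)⁻¹, (stalkEquiv (CommRingCat.of k) ((i ≫ φ) d)).injective ?_⟩
      rw [stalkEquiv_ev, ← hrt, IsLocalization.eq_mk'_iff_mul_eq, ← map_mul, mul_assoc, inv_mul_cancel₀ ht, mul_one]
    exact RingHom.FormallyUnramified.comp h1 (AlgebraicGeometry.FormallyUnramified.stalkMap (i ≫ φ) d)
  haveI : Algebra.EssFiniteType (D.presheaf.stalk d) (ResidueField (D.presheaf.stalk d)) := inferInstance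
  haveI : Algebra.EssFiniteType k (ResidueField (D.presheaf.stalk d)) :=
    Algebra.EssFiniteType.comp k (D.presheaf.stalk d) _
  haveI : Algebra.FormallyUnramified (D.presheaf.stalk d) (ResidueField (D.presheaf.stalk d)) :=
    Algebra.FormallyUnramified.of_surjective (Algebra.ofId (D.presheaf.stalk d) _) residue_surjective
  haveI : Algebra.FormallyUnramified k (ResidueField (D.presheaf.stalk d)) :=
    Algebra.FormallyUnramified.comp k (D.presheaf.stalk d) _
  haveI := Algebra.FormallyUnramified.isSeparable k (ResidueField (D.presheaf.stalk d))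
  obtain ⟨c, hc⟩ := exists_const (k := k) ((i.stalkMap d).hom z)
  refine ⟨c, ?_⟩
  rw [hal, ev_comp, RingHom.comp_apply, ← map_sub] at hc
  rw [mem_maximalIdeal, mem_nonunits_iff] at hc ⊢
  exact fun h => hc (h.map _)

theorem isStrictlySemistable {C D : Scheme.{u}} (φ : C ⟶ Spec (CommRingCat.of k)) (i : D ⟶ C) [IsReduced C]
    [IsReduced D] (hss : SSMod.IsSemistable φ i)
    (hZ : ∀ Z ∈ irreducibleComponents (C : Type u), ∃ (W : Scheme.{u}) (e : W ⟶ C),
      IsClosedImmersion e ∧ IsReduced W ∧ Set.range e.base = Z ∧ Smooth (e ≫ φ)) :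
    IsStrictlySemistable φ i := by
  obtain ⟨hMP, hN, hDe, hdisj⟩ := hss
  obtain ⟨-, hlfp, -, -, hrel, hcl, -, -, -⟩ := id hMP
  haveI := hlfp
  haveI := hcl
  haveI := hDe
  haveI : LocallyOfFiniteType φ := inferInstance
  haveI : JacobsonSpace ↥C := LocallyOfFiniteType.jacobsonSpace φ
  haveI : IsLocallyNoetherian C := LocallyOfFiniteType.isLocallyNoetherian φ
  have hcd := curveDims_of_hasRelDim φ hrel
  haveI : DiscreteTopology D := by
    haveI : LocallyQuasiFinite (i ≫ φ) := AlgSpRegLib.lqf_of_etale _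
    have h := (i ≫ φ).isDiscrete_preimage_singleton (⟨⊥, Ideal.isPrime_bot⟩ : ↥(Spec (CommRingCat.of k)))
    haveI := h.to_subtype
    have hu : (i ≫ φ) ⁻¹' {(⟨⊥, Ideal.isPrime_bot⟩ : ↥(Spec (CommRingCat.of k)))} = Set.univ :=
      Set.eq_univ_of_forall fun d => Subsingleton.elim (α := PrimeSpectrum k) _ _
    exact ((Homeomorph.setCongr hu).trans (Homeomorph.Set.univ D)).discreteTopology
  suffices ∀ x : C, IsClosed ({x} : Set C) →
      (∃ U : C.Opens, x ∈ U ∧ ∀ y ∈ U, HasLineChartAt φ i y ∨ HasNodeChartAt φ i y) by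
    refine ⟨hMP, fun y => ?_⟩
    obtain ⟨x, hx, hyx⟩ := MiscFlat6.exists_closed_specializes y
    obtain ⟨U, hxU, hU⟩ := this x hx
    exact hU y (hyx.mem_open U.isOpen hxU)
  intro x hxc
  let M : Set C := i.base '' {d | i d ≠ x}
  have hM : IsClosed M := i.isClosedEmbedding.isClosedMap _ (isClosed_discrete _)
  let O : C.Opens := ⟨Mᶜ, hM.isOpen_compl⟩
  have hxO : x ∈ O := fun ⟨d, hd, hdx⟩ => hd hdx
  have hO : ∀ d, i d ∈ O → i d = x := fun d hd => by
    by_contra h
    exact hd ⟨d, h, rfl⟩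
  by_cases hsm : x ∈ φ.smoothLocus
  · obtain ⟨U, f, hx, hUO, hf, hfe, hzero⟩ := exists_line_chart φ x hxc hsm hcd O hxO
    haveI := hf
    refine ⟨U, hx, fun y hy => Or.inl (line_chart_pack U f hfe y hy fun d hd => ?_)⟩
    obtain rfl := hO d (hUO hd)
    exact hzero (exists_residue_of_etale φ i d)
  · have hson := (son_field φ x).1 ((isNodalFamily_iff_pt φ).1 hN |>.2.2 x).2
    have hnode := hson.resolve_left fun h => hsm ((smooth_nhd_iff φ x).1 h)
    obtain ⟨U, f, hxU, hUO, hf, hfe⟩ := exists_node_chart_of_smooth_component φ x hxc hnode hcd hZ O hxO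
    refine ⟨U, hxU, fun y hy => Or.inr ⟨CommRingCat.of k, 𝟙 _, inferInstance, U, hy, U.ι ≫ φ,
      (Category.comp_id _).symm, 0, f, hf, hfe, Set.disjoint_left.2 ?_⟩⟩
    rintro _ ⟨d, rfl⟩ hdU
    obtain rfl := hO d (hUO hdU)
    exact Set.disjoint_left.1 hdisj ⟨d, rfl⟩ hsm

end StrictSSLib

end
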