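import Groth.Agent.StrictSSLib.Node
import Groth.Agent.EtLocalLib.Standard
import Groth.Agent.S0390
import Mathlib

/-!
# Split nodes with a smooth branch
-/

set_option autoImplicit false
set_option linter.style.haveILetI false
set_option linter.unusedSectionVars false
set_option maxHeartbeats 1000000
set_option synthInstance.maxHeartbeats 100000
set_option backward.isDefEq.respectTransparency false
set_option backward.isDefEq.respectTransparency.types false

universe u

open IsLocalRing StrictSS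
open scoped TensorProduct

noncomputable section

namespace StrictSSLib

/-- Two crossing branches. -/
structure Cross {L : Type u} [CommRing L] [IsLocalRing L] (u v : L) : Prop where
  mul : u * v = 0
  gen : maximalIdeal L = Ideal.span {u, v}
  annU : ∀ z, z * u = 0 → v ∣ z
  annV : ∀ z, z * v = 0 → u ∣ z
  inter : ∀ z, u ∣ z → v ∣ z → z = 0

section Aux

variable {L : Type u} [CommRing L] [IsLocalRing L]

theorem not_span_singleton {x y w : L} (hgen : maximalIdeal L = Ideal.span {x, y})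
    (hind : ∀ p r : L, p * x + r * y ∈ maximalIdeal L ^ 2 → p ∈ maximalIdeal L ∧ r ∈ maximalIdeal L) :
    maximalIdeal L ≠ Ideal.span {w} := fun e => by
  obtain ⟨α, β, h⟩ := Ideal.mem_span_pair.1 (hgen.le (e ▸ Ideal.mem_span_singleton_self w : w ∈ maximalIdeal L))
  obtain ⟨p, hp⟩ := Ideal.mem_span_singleton'.1 (e.le (hgen ▸ Ideal.subset_span (by simp) : x ∈ maximalIdeal L))
  obtain ⟨q, hq⟩ := Ideal.mem_span_singleton'.1 (e.le (hgen ▸ Ideal.subset_span (by simp) : y ∈ maximalIdeal L))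
  have h1 := hind (1 - p * α) (-(p * β)) (by
    rw [show (1 - p * α) * x + -(p * β) * y = 0 by linear_combination -hp - p * h]
    exact zero_mem _)
  have h2 := hind (-(q * α)) (1 - q * β) (by
    rw [show -(q * α) * x + (1 - q * β) * y = 0 by linear_combination -hq - q * h]
    exact zero_mem _)
  refine (mem_maximalIdeal (1 : L)).1 ?_ isUnit_one
  rw [show (1 : L) = (1 - q * β) + (1 - p * α) * (q * β) + (-(p * β)) * (-(q * α)) by ring]
  exact add_mem (add_mem h2.2 (Ideal.mul_mem_right _ _ h1.1)) (Ideal.mul_mem_right _ _ h1.2)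

/-- A unit form in other coordinates. -/
theorem exists_form {x y u v a b c : L} (hgen : maximalIdeal L = Ideal.span {x, y})
    (hind : ∀ p r : L, p * x + r * y ∈ maximalIdeal L ^ 2 → p ∈ maximalIdeal L ∧ r ∈ maximalIdeal L)
    (hgen' : maximalIdeal L = Ideal.span {u, v}) (hd : IsUnit (4 * a * c - b ^ 2)) :
    ∃ A B C : L, IsUnit (4 * A * C - B ^ 2) ∧ A * u ^ 2 + B * u * v + C * v ^ 2 = NodalLib.qf a b c x y := by
  have hu : u ∈ maximalIdeal L := hgen' ▸ Ideal.subset_span (by simp)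
  have hv : v ∈ maximalIdeal L := hgen' ▸ Ideal.subset_span (by simp)
  obtain ⟨p₁, p₂, hp⟩ := Ideal.mem_span_pair.1 (hgen'.le (hgen ▸ Ideal.subset_span (by simp) : x ∈ maximalIdeal L))
  obtain ⟨r₁, r₂, hr⟩ := Ideal.mem_span_pair.1 (hgen'.le (hgen ▸ Ideal.subset_span (by simp) : y ∈ maximalIdeal L))
  obtain ⟨s₁, s₂, hs⟩ := Ideal.mem_span_pair.1 (hgen.le hu)
  obtain ⟨t₁, t₂, ht⟩ := Ideal.mem_span_pair.1 (hgen.le hv)
  have h1 := hind (1 - (p₁ * s₁ + p₂ * t₁)) (-(p₁ * s₂ + p₂ * t₂)) (by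
    rw [show (1 - (p₁ * s₁ + p₂ * t₁)) * x + -(p₁ * s₂ + p₂ * t₂) * y = 0 by
      linear_combination -hp - p₁ * hs - p₂ * ht]
    exact zero_mem _)
  have h2 := hind (-(r₁ * s₁ + r₂ * t₁)) (1 - (r₁ * s₂ + r₂ * t₂)) (by
    rw [show -(r₁ * s₁ + r₂ * t₁) * x + (1 - (r₁ * s₂ + r₂ * t₂)) * y = 0 by
      linear_combination -hr - r₁ * hs - r₂ * ht]
    exact zero_mem _)
  have hdet : IsUnit (p₁ * r₂ - p₂ * r₁) := by
    refine isUnit_of_mul_isUnit_left (y := s₁ * t₂ - s₂ * t₁) ?_
    refine IsLocalRing.notMem_maximalIdeal.1 fun h => ?_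
    have h3 : (1 : L) ∈ maximalIdeal L := by
      rw [show (1 : L) = (p₁ * r₂ - p₂ * r₁) * (s₁ * t₂ - s₂ * t₁) + (1 - (p₁ * s₁ + p₂ * t₁)) * (r₁ * s₂ + r₂ * t₂) +
        (-(p₁ * s₂ + p₂ * t₂)) * (-(r₁ * s₁ + r₂ * t₁)) + (1 - (r₁ * s₂ + r₂ * t₂)) by ring]
      exact add_mem (add_mem (add_mem h (Ideal.mul_mem_right _ _ h1.1)) (Ideal.mul_mem_right _ _ h1.2)) h2.2
    exact (mem_maximalIdeal (1 : L)).1 h3 isUnit_one
  refine ⟨a * p₁ ^ 2 + b * p₁ * r₁ + c * r₁ ^ 2, 2 * a * p₁ * p₂ + b * (p₁ * r₂ + p₂ * r₁) + 2 * c * r₁ * r₂,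
    a * p₂ ^ 2 + b * p₂ * r₂ + c * r₂ ^ 2, ?_, ?_⟩
  · rw [show 4 * (a * p₁ ^ 2 + b * p₁ * r₁ + c * r₁ ^ 2) * (a * p₂ ^ 2 + b * p₂ * r₂ + c * r₂ ^ 2) -
      (2 * a * p₁ * p₂ + b * (p₁ * r₂ + p₂ * r₁) + 2 * c * r₁ * r₂) ^ 2 =
      (4 * a * c - b ^ 2) * (p₁ * r₂ - p₂ * r₁) ^ 2 by ring]
    exact hd.mul (hdet.pow 2)
  · rw [← hp, ← hr, NodalLib.qf]; ring

theorem mem_sq_decomp {u v z : L} (hgen : maximalIdeal L = Ideal.span {u, v}) (hz : z ∈ maximalIdeal L ^ 2) :
    ∃ α β, α ∈ maximalIdeal L ∧ β ∈ maximalIdeal L ∧ z = α * u + β * v := by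
  rw [pow_two] at hz
  refine Submodule.mul_induction_on hz (fun m hm n hn => ?_) (fun a b ha hb => ?_)
  · obtain ⟨r, s, rfl⟩ := Ideal.mem_span_pair.1 (hgen.le hn)
    exact ⟨m * r, m * s, Ideal.mul_mem_right _ _ hm, Ideal.mul_mem_right _ _ hm, by ring⟩
  · obtain ⟨α, β, h1, h2, rfl⟩ := ha
    obtain ⟨α', β', h1', h2', rfl⟩ := hb
    exact ⟨α + α', β + β', add_mem h1 h1', add_mem h2 h2', by ring⟩

theorem mem_cube_decomp {u v z : L} (hgen : maximalIdeal L = Ideal.span {u, v}) (hz : z ∈ maximalIdeal L ^ 3) :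
    ∃ α β, β ∈ maximalIdeal L ^ 2 ∧ z = α * u ^ 3 + β * v := by
  have hu : u ∈ maximalIdeal L := hgen ▸ Ideal.subset_span (by simp)
  have hv : v ∈ maximalIdeal L := hgen ▸ Ideal.subset_span (by simp)
  rw [pow_succ] at hz
  refine Submodule.mul_induction_on hz (fun m hm n hn => ?_) (fun a b ha hb => ?_)
  · obtain ⟨r, s, rfl⟩ := Ideal.mem_span_pair.1 (hgen.le hn)
    obtain ⟨α, β, hα, hβ, rfl⟩ := mem_sq_decomp hgen hm
    obtain ⟨γ, δ, hα'⟩ := Ideal.mem_span_pair.1 (hgen.le hα)
    refine ⟨γ * r, δ * r * u ^ 2 + β * r * u + s * (α * u + β * v), ?_, ?_⟩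
    · refine add_mem (add_mem (Ideal.mul_mem_left _ _ (Ideal.pow_mem_pow hu 2)) ?_) (Ideal.mul_mem_left _ _ hm)
      rw [pow_two]; exact Ideal.mul_mem_mul (Ideal.mul_mem_right _ _ hβ) hu
    · linear_combination (-(r * u ^ 2)) * hα'
  · obtain ⟨α, β, h2, rfl⟩ := ha
    obtain ⟨α', β', h2', rfl⟩ := hb
    exact ⟨α + α', β + β', add_mem h2 h2', by ring⟩

theorem ker_branch [IsNoetherianRing L] {D : Type u} [CommRing D] [IsDomain D] [IsLocalRing D] (π : L →+* D)
    [IsLocalHom π] {u v : L} (hgen : maximalIdeal L = Ideal.span {u, v}) (hv : π v = 0) (hu : π u ≠ 0)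
    {z : L} (hz : π z = 0) : v ∣ z := by
  have hum : u ∈ maximalIdeal L := hgen ▸ Ideal.subset_span (by simp)
  have hle : RingHom.ker π ≤ Ideal.span {v} ⊔ maximalIdeal L • RingHom.ker π := fun z hz => by
    have hzm : z ∈ maximalIdeal L := by
      rw [mem_maximalIdeal, mem_nonunits_iff]
      exact fun h => (h.map π).ne_zero (RingHom.mem_ker.1 hz)
    obtain ⟨α, β, rfl⟩ := Ideal.mem_span_pair.1 (hgen.le hzm)
    rw [RingHom.mem_ker, map_add, map_mul, map_mul, hv, mul_zero, add_zero] at hz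
    refine add_mem (Ideal.mem_sup_right ?_) (Ideal.mem_sup_left (Ideal.mem_span_singleton'.2 ⟨β, rfl⟩))
    rw [smul_eq_mul, mul_comm α]
    exact Ideal.mul_mem_mul hum (RingHom.mem_ker.2 ((mul_eq_zero.1 hz).resolve_right hu))
  exact Ideal.mem_span_singleton.1 (Submodule.le_of_le_smul_of_le_jacobson_bot (IsNoetherian.noetherian _)
    (IsLocalRing.jacobson_eq_maximalIdeal _ bot_ne_top).ge hle (RingHom.mem_ker.2 hz))

end Aux

/-- A reduced quadratic node with one regular branch splits. -/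
theorem exists_cross {L : Type u} [CommRing L] [IsLocalRing L] [IsNoetherianRing L] [_root_.IsReduced L]
    (hQ : NodalLib.QNode L) {D : Type u} [CommRing D] [IsDomain D] [IsLocalRing D] (π : L →+* D)
    (hπ : Function.Surjective π) (ϖ : D) (hϖ : maximalIdeal D = Ideal.span {ϖ}) (hϖ0 : ϖ ≠ 0) :
    ∃ u v : L, Cross u v := by
  obtain ⟨x, y, a, b, c, hgen, hind, hd, hq, -⟩ := hQ
  haveI : IsLocalHom π := .of_surjective π hπ
  have hm : (maximalIdeal L).map π = maximalIdeal D := map_maximalIdeal_of_surjective π hπ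
  obtain ⟨u, hu⟩ := hπ ϖ
  have hcomap : ∀ z, z ∈ maximalIdeal L ↔ π z ∈ maximalIdeal D := fun z => by
    rw [mem_maximalIdeal, mem_maximalIdeal, mem_nonunits_iff, mem_nonunits_iff]
    exact not_congr (isUnit_map_iff π z).symm
  have humem : u ∈ maximalIdeal L := (hcomap u).2 (hu ▸ hϖ ▸ Ideal.mem_span_singleton_self ϖ)
  -- a generator of the branch
  obtain ⟨v, hvm, hv, hgen'⟩ : ∃ v ∈ maximalIdeal L, π v = 0 ∧ maximalIdeal L = Ideal.span {u, v} := by
    have hu2 : u ∉ maximalIdeal L ^ 2 := fun h => by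
      have h1 := Ideal.mem_map_of_mem π h
      rw [Ideal.map_pow, hm, hu, hϖ, Ideal.span_singleton_pow, Ideal.mem_span_singleton] at h1
      obtain ⟨d, hd⟩ := h1
      have h2 : ϖ * (1 - ϖ * d) = 0 := by linear_combination hd
      refine (mem_maximalIdeal ϖ).1 (hϖ ▸ Ideal.mem_span_singleton_self ϖ) (IsUnit.of_mul_eq_one d ?_)
      exact (sub_eq_zero.1 ((mul_eq_zero.1 h2).resolve_left hϖ0)).symm
    have key : ∀ (x y s t : L), maximalIdeal L = Ideal.span {x, y} → s * x + t * y = u → IsUnit s →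
        ∃ v ∈ maximalIdeal L, π v = 0 ∧ maximalIdeal L = Ideal.span {u, v} := by
      intro x y s t hgen hst hs
      have hy : y ∈ maximalIdeal L := hgen ▸ Ideal.subset_span (by simp)
      obtain ⟨d, hd⟩ := Ideal.mem_span_singleton.1 (hϖ.le ((hcomap y).1 hy))
      obtain ⟨r, rfl⟩ := hπ d
      have hv : π (y - r * u) = 0 := by rw [map_sub, map_mul, hu, hd, mul_comm, sub_self]
      have hvm : y - r * u ∈ maximalIdeal L := (hcomap _).2 (hv ▸ zero_mem _)
      refine ⟨y - r * u, hvm, hv, le_antisymm ?_ (Ideal.span_le.2 (Set.pair_subset humem hvm))⟩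
      rw [hgen, Ideal.span_le]
      refine Set.pair_subset ?_ (Ideal.mem_span_pair.2 ⟨r, 1, by ring⟩)
      obtain ⟨s', hs'⟩ := hs.exists_left_inv
      refine Ideal.mem_span_pair.2 ⟨s' * (1 - t * r), -(s' * t), ?_⟩
      linear_combination x * hs' - s' * hst
    obtain ⟨s, t, hst⟩ := Ideal.mem_span_pair.1 (hgen.le humem)
    by_cases hs : IsUnit s
    · exact key x y s t hgen hst hs
    · by_cases ht : IsUnit t
      · exact key y x t s (hgen.trans (Ideal.span_pair_comm)) (by rw [← hst]; ring) ht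
      · refine absurd ?_ hu2
        rw [← hst, pow_two]
        exact add_mem (Ideal.mul_mem_mul ((mem_maximalIdeal s).2 hs) (hgen ▸ Ideal.subset_span (by simp)))
          (Ideal.mul_mem_mul ((mem_maximalIdeal t).2 ht) (hgen ▸ Ideal.subset_span (by simp)))
  have hker : ∀ z, π z = 0 → v ∣ z := fun z hz => ker_branch π hgen' hv (hu ▸ hϖ0) hz
  obtain ⟨A, B, C, hdisc, hform⟩ := exists_form hgen hind hgen' hd
  have hAm : A ∈ maximalIdeal L := by
    refine (hcomap A).2 ?_
    have h1 := Ideal.mem_map_of_mem π hq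
    rw [Ideal.map_pow, hm, ← hform, map_add, map_add, map_mul, map_mul, map_mul, map_mul, map_pow, map_pow, hv, hu,
      mul_zero, zero_pow two_ne_zero, mul_zero, add_zero, add_zero, hϖ, Ideal.span_singleton_pow,
      Ideal.mem_span_singleton] at h1
    obtain ⟨d, hd⟩ := h1
    rw [hϖ, Ideal.mem_span_singleton]
    exact ⟨d, mul_right_cancel₀ (pow_ne_zero 2 hϖ0) (by linear_combination hd)⟩
  have hB : IsUnit B := by
    refine IsLocalRing.notMem_maximalIdeal.1 fun h => (mem_maximalIdeal _).1 (?_ : 4 * A * C - B ^ 2 ∈ maximalIdeal L) hdisc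
    exact sub_mem (Ideal.mul_mem_right _ _ (Ideal.mul_mem_left _ _ hAm)) (Ideal.pow_mem_of_mem _ h 2 two_pos)
  obtain ⟨A₁, A₂, hA⟩ := Ideal.mem_span_pair.1 (hgen'.le hAm)
  obtain ⟨α, β, hβ, hab⟩ := mem_cube_decomp hgen' hq
  rw [← hform, ← hA] at hab
  obtain ⟨γ, hγ⟩ : v ∣ A₁ - α := by
    refine hker _ ?_
    have h1 := congrArg π hab
    simp only [map_add, map_mul, map_pow, hv, hu, mul_zero, add_zero, zero_pow two_ne_zero] at h1
    rw [map_sub]
    exact mul_right_cancel₀ (pow_ne_zero 3 hϖ0) (by linear_combination h1)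
  obtain ⟨β₁, β₂, hβ₁, -, hβ'⟩ := mem_sq_decomp hgen' hβ
  obtain ⟨δ, hδdef⟩ : ∃ δ, δ = γ * u ^ 2 + A₂ * u + B - β₁ := ⟨_, rfl⟩
  obtain ⟨w, hw⟩ : ∃ w, w = δ * u + (C - β₂) * v := ⟨_, rfl⟩
  have hvw : v * w = 0 := by
    rw [hw, hδdef]
    linear_combination hab - u ^ 3 * hγ + v * hβ'
  have hδ : IsUnit δ := by
    refine IsLocalRing.notMem_maximalIdeal.1 fun h => (mem_maximalIdeal B).1 ?_ hB
    rw [show B = δ - (γ * u + A₂) * u + β₁ by rw [hδdef]; ring]
    exact add_mem (sub_mem h (Ideal.mul_mem_left _ _ humem)) hβ₁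
  obtain ⟨ε, hε⟩ := hδ.exists_left_inv
  have hgw : maximalIdeal L = Ideal.span {w, v} := by
    refine le_antisymm ?_ (Ideal.span_le.2 (Set.pair_subset (hw ▸ hgen' ▸ Ideal.mem_span_pair.2 ⟨_, _, rfl⟩) hvm))
    rw [hgen', Ideal.span_le]
    refine Set.pair_subset (Ideal.mem_span_pair.2 ⟨ε, -(ε * (C - β₂)), ?_⟩) (Ideal.subset_span (by simp))
    rw [hw]
    linear_combination u * hε
  have hπw : π w ≠ 0 := by
    rw [hw, map_add, map_mul, map_mul, hv, mul_zero, add_zero, hu]
    exact mul_ne_zero ((hδ.map π).ne_zero) hϖ0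
  have hv0 : v ≠ 0 := fun h0 => not_span_singleton hgen hind (w := w) (by rw [hgw, h0]; simp [Ideal.span_insert])
  refine ⟨w, v, by rw [mul_comm]; exact hvw, hgw, fun z hz => hker z ?_, fun z hz => ?_, fun z h1 h2 => ?_⟩
  · have := congrArg π hz
    rw [map_mul, map_zero] at this
    exact (mul_eq_zero.1 this).resolve_right hπw
  · have hzm : z ∈ maximalIdeal L := (mem_maximalIdeal z).2 fun h => hv0 (h.mul_right_eq_zero.1 hz)
    obtain ⟨α, β, rfl⟩ := Ideal.mem_span_pair.1 (hgw.le hzm)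
    have h2 : (β * v) ^ 2 = 0 := by linear_combination β * hz - α * β * hvw
    rw [IsNilpotent.eq_zero ⟨2, h2⟩, add_zero]
    exact dvd_mul_left w α
  · obtain ⟨s, rfl⟩ := h1
    obtain ⟨t, ht⟩ := h2
    refine IsNilpotent.eq_zero ⟨2, ?_⟩
    linear_combination (w * s) * ht + s * t * hvw

/-- Over two crossing lines, crossing branches give a flat algebra. -/
theorem flat_of_cross {N L : Type u} [CommRing N] [IsLocalRing N] [IsNoetherianRing N] [CommRing L] [IsLocalRing L]
    [IsNoetherianRing L] [Algebra N L] [IsLocalHom (algebraMap N L)] (U V : N) (hN : maximalIdeal N = Ideal.span {U, V})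
    (h0 : U * V = 0) (h : Cross (algebraMap N L U) (algebraMap N L V)) : Module.Flat N L := by
  refine Groth.Agent.S0390.result (S := L) ((injective_iff_map_eq_zero _).2 fun z hz => ?_)
  let Um : maximalIdeal N := ⟨U, hN ▸ Ideal.subset_span (by simp)⟩
  let Vm : maximalIdeal N := ⟨V, hN ▸ Ideal.subset_span (by simp)⟩
  have hform : ∀ z : maximalIdeal N ⊗[N] L, ∃ a b : L, z = Um ⊗ₜ a + Vm ⊗ₜ b := by
    intro z
    induction z using TensorProduct.induction_on with
    | zero => exact ⟨0, 0, by simp⟩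
    | tmul m l =>
      obtain ⟨r, s, hrs⟩ := Ideal.mem_span_pair.1 (hN.le m.2)
      refine ⟨r • l, s • l, ?_⟩
      rw [show m = r • Um + s • Vm from Subtype.ext (by simp [Um, Vm, smul_eq_mul, hrs]), TensorProduct.add_tmul,
        TensorProduct.smul_tmul, TensorProduct.smul_tmul]
    | add p q hp hq =>
      obtain ⟨a, b, rfl⟩ := hp
      obtain ⟨a', b', rfl⟩ := hq
      exact ⟨a + a', b + b', by rw [TensorProduct.tmul_add, TensorProduct.tmul_add]; abel⟩
  obtain ⟨a, b, rfl⟩ := hform z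
  have h1 : algebraMap N L U * a + algebraMap N L V * b = 0 := by
    have := congrArg (TensorProduct.lid N L) hz
    simpa [Algebra.smul_def, Um, Vm] using this
  have hua : algebraMap N L U * a = 0 := h.inter _ (dvd_mul_right _ _) ⟨-b, by linear_combination h1⟩
  obtain ⟨a', ha'⟩ := h.annU a (by rw [mul_comm]; exact hua)
  have hvb : algebraMap N L V * b = 0 := by linear_combination h1 - hua
  obtain ⟨b', hb'⟩ := h.annV b (by rw [mul_comm]; exact hvb)
  have hVU : V • Um = 0 := Subtype.ext (show V * U = 0 by rw [mul_comm, h0])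
  have hUV : U • Vm = 0 := Subtype.ext h0
  rw [ha', hb', ← Algebra.smul_def, ← Algebra.smul_def, ← TensorProduct.smul_tmul, ← TensorProduct.smul_tmul, hVU,
    hUV, TensorProduct.zero_tmul, TensorProduct.zero_tmul, add_zero]

/-- Same maximal ideal and same residue field: unramified. -/
theorem unramified_of_rational {k N L : Type u} [Field k] [CommRing N] [IsLocalRing N] [CommRing L] [IsLocalRing L]
    [Algebra k N] [Algebra k L] [Algebra N L] [IsScalarTower k N L] [IsLocalHom (algebraMap N L)]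
    [Algebra.EssFiniteType N L] (hm : (maximalIdeal N).map (algebraMap N L) = maximalIdeal L)
    (hres : ∀ z : L, ∃ c : k, z - algebraMap k L c ∈ maximalIdeal L) : Algebra.FormallyUnramified N L := by
  haveI : Algebra.IsSeparable (ResidueField N) (ResidueField L) := by
    have hs : Function.Surjective (algebraMap (ResidueField N) (ResidueField L)) := fun r => by
      obtain ⟨z, rfl⟩ := residue_surjective r
      obtain ⟨c, hc⟩ := hres z
      refine ⟨residue N (algebraMap k N c), ?_⟩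
      have h1 := (residue_eq_zero_iff _).2 hc
      rw [map_sub, sub_eq_zero] at h1
      rw [h1, IsScalarTower.algebraMap_apply k N L]
      rfl
    exact AlgEquiv.Algebra.isSeparable (AlgEquiv.ofBijective (Algebra.ofId (ResidueField N) (ResidueField L))
      ⟨(algebraMap (ResidueField N) (ResidueField L)).injective, hs⟩)
  exact Algebra.FormallyUnramified.of_map_maximalIdeal hm

/-- Crossing branches make an etale map from a ring with two crossing branches. -/
theorem isEtaleAt_of_cross {k N₀ T : Type u} [Field k] [CommRing N₀] [Algebra k N₀] [Algebra.FiniteType k N₀]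
    [CommRing T] [Algebra k T] [Algebra.FinitePresentation k T] [Algebra N₀ T] [IsScalarTower k N₀ T]
    (U₀ V₀ : N₀) (h₀ : U₀ * V₀ = 0) (q : Ideal T) [q.IsPrime]
    (hw : U₀ ∈ q.comap (algebraMap N₀ T) → V₀ ∈ q.comap (algebraMap N₀ T) →
      q.comap (algebraMap N₀ T) = Ideal.span {U₀, V₀})
    (h : Cross (algebraMap T (Localization.AtPrime q) (algebraMap N₀ T U₀))
      (algebraMap T (Localization.AtPrime q) (algebraMap N₀ T V₀)))
    (hres : ∀ z : Localization.AtPrime q, ∃ c : k, z - algebraMap k _ c ∈ maximalIdeal _) :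
    Algebra.IsEtaleAt N₀ q := by
  haveI : Algebra.FinitePresentation N₀ T :=
    Algebra.FinitePresentation.of_restrict_scalars_finitePresentation k _ _
  let w : Ideal N₀ := q.comap (algebraMap N₀ T)
  let N := Localization.AtPrime w
  let L := Localization.AtPrime q
  haveI : q.LiesOver w := ⟨rfl⟩
  letI : Algebra N L := Localization.AtPrime.algebraOfLiesOver w q
  haveI : IsScalarTower N₀ N L := IsScalarTower.of_algebraMap_eq fun z => by
    show _ = Localization.localRingHom w q (algebraMap N₀ T) _ (algebraMap N₀ N z)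
    rw [Localization.localRingHom_to_map, ← IsScalarTower.algebraMap_apply]
  haveI : IsLocalHom (algebraMap N L) := by
    rw [RingHom.algebraMap_toAlgebra]
    infer_instance
  have hmap : ∀ z, algebraMap N L (algebraMap N₀ N z) = algebraMap T L (algebraMap N₀ T z) := fun z => by
    rw [← IsScalarTower.algebraMap_apply, ← IsScalarTower.algebraMap_apply]
  have hU : U₀ ∈ w := (IsLocalization.AtPrime.to_map_mem_maximal_iff L q _).1
    (h.gen.ge (Ideal.subset_span (Set.mem_insert _ _)))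
  have hV : V₀ ∈ w := (IsLocalization.AtPrime.to_map_mem_maximal_iff L q _).1
    (h.gen.ge (Ideal.subset_span (Set.mem_insert_of_mem _ rfl)))
  have hwN : maximalIdeal N = Ideal.span {algebraMap N₀ N U₀, algebraMap N₀ N V₀} :=
    (IsLocalization.AtPrime.map_eq_maximalIdeal w N).symm.trans
      ((congrArg (Ideal.map (algebraMap N₀ N)) (hw hU hV)).trans (by rw [Ideal.map_span, Set.image_pair]))
  haveI : Algebra.EssFiniteType N₀ N := Algebra.EssFiniteType.of_isLocalization N w.primeCompl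
  haveI : Algebra.EssFiniteType k N := Algebra.EssFiniteType.comp k N₀ N
  haveI : IsNoetherianRing N := Algebra.EssFiniteType.isNoetherianRing k N
  haveI : Algebra.EssFiniteType T L := Algebra.EssFiniteType.of_isLocalization L q.primeCompl
  haveI : Algebra.EssFiniteType k L := Algebra.EssFiniteType.comp k T L
  haveI : IsNoetherianRing L := Algebra.EssFiniteType.isNoetherianRing k L
  haveI : Algebra.EssFiniteType N₀ L := Algebra.EssFiniteType.comp _ T L
  haveI : Algebra.EssFiniteType N L := Algebra.EssFiniteType.of_comp N₀ N L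
  have h' : Cross (algebraMap N L (algebraMap N₀ N U₀)) (algebraMap N L (algebraMap N₀ N V₀)) := by
    rw [hmap, hmap]; exact h
  haveI : Module.Flat N L := flat_of_cross _ _ hwN (by rw [← map_mul, h₀, map_zero]) h'
  haveI : Module.Flat N₀ N := IsLocalization.flat N w.primeCompl
  haveI : Module.Flat N₀ L := Module.Flat.trans N₀ N L
  haveI : IsScalarTower k N L := IsScalarTower.of_algebraMap_eq fun c => by
    rw [IsScalarTower.algebraMap_apply k N₀ N, hmap, ← IsScalarTower.algebraMap_apply k N₀ T,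
      ← IsScalarTower.algebraMap_apply k T L]
  haveI : Algebra.FormallyUnramified N L := unramified_of_rational (k := k) (by
    rw [hwN, Ideal.map_span, Set.image_pair, h'.gen]) hres
  haveI : Algebra.FormallyUnramified N₀ N := Algebra.FormallyUnramified.of_isLocalization w.primeCompl
  haveI : Algebra.IsUnramifiedAt N₀ q := Algebra.FormallyUnramified.comp _ N L
  exact EtLocalLib.isEtaleAt_of_flat q

/-- Crossing branches make an etale map from the node model. -/
theorem isEtaleAt_node {k : Type u} [Field k] {T : Type u} [CommRing T] [Algebra k T] [Algebra.FinitePresentation k T]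
    (q : Ideal T) [q.IsPrime] [Algebra (NodeAlg k 0) T] [IsScalarTower k (NodeAlg k 0) T]
    (h : Cross (algebraMap T (Localization.AtPrime q) (algebraMap (NodeAlg k 0) T (uv 0 0)))
      (algebraMap T (Localization.AtPrime q) (algebraMap (NodeAlg k 0) T (uv 0 1))))
    (hres : ∀ z : Localization.AtPrime q, ∃ c : k, z - algebraMap k _ c ∈ maximalIdeal _) :
    Algebra.IsEtaleAt (NodeAlg k 0) q :=
  isEtaleAt_of_cross (uv (0 : k) 0) (uv (0 : k) 1) ((uv_mul (0 : k)).trans (map_zero _)) q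
    (fun hU hV => (origin_eq (0 : k) (q.comap (algebraMap (NodeAlg k 0) T))
      (Fin.forall_fin_two.2 ⟨hU, hV⟩)).2.1) h hres

end StrictSSLib

end
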